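import Groth.Agent.AVDegPoly.Vanish
import Groth.Agent.AbTors.BaseChange
import Groth.Agent.FibDim.BaseField

/-!
The degree polynomial over any ground field.
-/

noncomputable section

set_option linter.style.haveILetI false
set_option linter.unusedSectionVars false
set_option backward.isDefEq.respectTransparency false
set_option backward.isDefEq.respectTransparency.types false
set_option maxHeartbeats 1000000
set_option autoImplicit false

universe u

open CategoryTheory CategoryTheory.Limits MonoidalCategory CartesianMonoidalCategory MonObj AlgebraicGeometry TopologicalSpace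

namespace Groth.Agent.AVDegPoly

open Groth.Agent.H23 Groth.Agent.AbTors

variable {k Ω : Type u} [Field k] [Field Ω] [Algebra k Ω]
  {A B : Over (Spec (CommRingCat.of k))}

theorem isPullback_map (f : A ⟶ B) :
    IsPullback (pullback.fst A.hom (ext k Ω)) ((Over.pullback (ext k Ω)).map f).left f.left (pullback.fst B.hom (ext k Ω)) := by
  refine IsPullback.flip (IsPullback.of_right ?_ ?_ (IsPullback.of_hasPullback B.hom (ext k Ω)).flip)
  · convert (IsPullback.of_hasPullback A.hom (ext k Ω)).flip using 1
    · simp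
    · simp
  · simp

variable [GrpObj A] [IsProper A.hom] [GeometricallyIntegral A.hom]
  [GrpObj B] [IsCommMonObj B] [IsProper B.hom] [GeometricallyIntegral B.hom]

variable (Ω) in
/-- A homomorphism between abelian varieties of one dimension is finite if it becomes so over a larger field. -/
theorem isFinite_of_bc {g : ℕ} (hgA : topologicalKrullDim A.left = g) (hgB : topologicalKrullDim B.left = g)
    (hgA' : topologicalKrullDim (Red.bc (ext k Ω) A).left = g) (hgB' : topologicalKrullDim (Red.bc (ext k Ω) B).left = g)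
    (f : A ⟶ B) [IsMonHom f] (h : IsFinite ((Over.pullback (ext k Ω)).map f).left) : IsFinite f.left := by
  obtain ⟨_, _⟩ := bc_props k Ω A
  obtain ⟨_, _⟩ := bc_props k Ω B
  haveI : IsCommMonObj (Red.bc (ext k Ω) B) := isCommMonObj_of_isProper_of_geometricallyIntegral _
  haveI := H23.BcComp.isMonHom_bc_map (ext k Ω) f
  haveI := h
  obtain ⟨hsurj, -, -⟩ := hom_props (k := Ω) (A := Red.bc (ext k Ω) A) (B := Red.bc (ext k Ω) B) hgA' hgB' ((Over.pullback (ext k Ω)).map f)
  haveI : IsIntegral A.left := GeometricallyIntegral.isIntegral_of_subsingleton A.hom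
  haveI : IsIntegral B.left := GeometricallyIntegral.isIntegral_of_subsingleton B.hom
  haveI : Surjective (ext k Ω) :=
    ⟨fun x => ⟨IsLocalRing.closedPoint Ω, Subsingleton.elim (α := PrimeSpectrum k) _ _⟩⟩
  haveI : Surjective (pullback.fst B.hom (ext k Ω)) := MorphismProperty.pullback_fst _ _ inferInstance
  haveI : Surjective f.left := ⟨fun b => by
    obtain ⟨b', rfl⟩ := (pullback.fst B.hom (ext k Ω)).surjective b
    obtain ⟨a', rfl⟩ := hsurj.surj b'
    refine ⟨pullback.fst A.hom (ext k Ω) a', ?_⟩
    exact congrArg (fun m : (Red.bc (ext k Ω) A).left ⟶ B.left => m a') (isPullback_map f).w⟩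
  haveI : IsProper (f.left ≫ B.hom) := by rw [Over.w]; infer_instance
  haveI : IsProper f.left := IsProper.of_comp f.left B.hom
  haveI : Flat f.left := GrpSchLib.flat_of_surjective_hom f
  exact Isogeny.isFinite_of_flat A.hom B.hom f.left (Over.w f) (hgA.trans hgB.symm)

/-- The degree is a homogeneous polynomial of degree `2g`, vanishing off the finite homomorphisms. -/
theorem exists_degree_poly_field [IsCommMonObj A] {g : ℕ} (hgA : topologicalKrullDim A.left = g)
    (hgB : topologicalKrullDim B.left = g) {m : ℕ} (e : Fin m → (A ⟶ B)) [∀ i, IsMonHom (e i)] :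
    ∃ P : MvPolynomial (Fin m) ℚ, P.IsHomogeneous (2 * g) ∧ ∀ a : Fin m → ℤ,
      (IsFinite (∏ i, e i ^ a i).left →
        ∀ b : B.left, (Scheme.Hom.finrank (∏ i, e i ^ a i).left b : ℚ) = MvPolynomial.eval (fun i => (a i : ℚ)) P) ∧
      (¬ IsFinite (∏ i, e i ^ a i).left → MvPolynomial.eval (fun i => (a i : ℚ)) P = 0) := by
  let Ω := AlgebraicClosure k
  let F := Over.pullback (ext k Ω)
  obtain ⟨_, _⟩ := bc_props k Ω A
  obtain ⟨_, _⟩ := bc_props k Ω B
  haveI : IsCommMonObj (Red.bc (ext k Ω) A) := isCommMonObj_of_isProper_of_geometricallyIntegral _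
  haveI : IsCommMonObj (Red.bc (ext k Ω) B) := isCommMonObj_of_isProper_of_geometricallyIntegral _
  haveI : Subsingleton ↥(Spec (CommRingCat.of k)) := FibDim.subsingleton_spec_field k
  haveI : Subsingleton ↥(Spec (CommRingCat.of Ω)) := FibDim.subsingleton_spec_field Ω
  haveI : Nonempty ↥(Spec (CommRingCat.of Ω)) := inferInstanceAs (Nonempty (PrimeSpectrum Ω))
  have hgA' : topologicalKrullDim (Red.bc (ext k Ω) A).left = g :=
    (FibDim.topologicalKrullDim_baseChange (IsPullback.of_hasPullback A.hom (ext k Ω))).trans hgA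
  have hgB' : topologicalKrullDim (Red.bc (ext k Ω) B).left = g :=
    (FibDim.topologicalKrullDim_baseChange (IsPullback.of_hasPullback B.hom (ext k Ω))).trans hgB
  haveI : ∀ i, IsMonHom ((F.map (e i)) : Red.bc (ext k Ω) A ⟶ Red.bc (ext k Ω) B) := fun i =>
    H23.BcComp.isMonHom_bc_map (ext k Ω) (e i)
  obtain ⟨P, hP, hPa⟩ := exists_degree_poly_vanishing (k := Ω) (A := Red.bc (ext k Ω) A) (B := Red.bc (ext k Ω) B)
    hgA' hgB' fun i => F.map (e i)
  let φ : (A ⟶ B) →* (Red.bc (ext k Ω) A ⟶ Red.bc (ext k Ω) B) :=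
    MonoidHom.mk' (fun f => F.map f) fun f h => CategoryTheory.Functor.map_mul _ f h
  refine ⟨P, hP, fun a => ?_⟩
  have hmap : F.map (∏ i, e i ^ a i) =
      (∏ i, (F.map (e i) : Red.bc (ext k Ω) A ⟶ Red.bc (ext k Ω) B) ^ a i) := by
    show φ _ = _
    rw [map_prod]
    exact Finset.prod_congr rfl fun i _ => map_zpow φ _ _
  haveI : IsMonHom (∏ i, e i ^ a i) := by
    let H : Subgroup (A ⟶ B) :=
      { carrier := {f | IsMonHom f}
        one_mem' := ⟨by rw [MonObj.comp_one, ← MonObj.one_eq_one], by
          have hμ' : μ[B] = fst B B * snd B B := by rw [Hom.mul_def, lift_fst_snd, Category.id_comp]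
          rw [hμ', MonObj.comp_one, MonObj.comp_mul, tensorHom_fst, tensorHom_snd, MonObj.comp_one, MonObj.comp_one,
            _root_.one_mul]⟩
        mul_mem' := fun {f h} hf hh => by
          haveI : IsMonHom f := hf
          haveI : IsMonHom h := hh
          exact isMonHom_mul f h
        inv_mem' := fun {f} hf => by
          haveI : IsMonHom f := hf
          exact isMonHom_inv f }
    exact H.prod_mem fun i _ => H.zpow_mem (show e i ∈ H from inferInstanceAs (IsMonHom (e i))) _
  refine ⟨fun hfin b => ?_, fun hnf => (hPa a).2 fun h => hnf ?_⟩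
  · haveI := hfin
    obtain ⟨_, _, _⟩ := hom_props hgA hgB (∏ i, e i ^ a i)
    haveI : IsFinite (F.map (∏ i, e i ^ a i)).left :=
      MorphismProperty.of_isPullback (isPullback_map (Ω := Ω) (∏ i, e i ^ a i)) ‹IsFinite _›
    haveI : Surjective (ext k Ω) :=
      ⟨fun x => ⟨IsLocalRing.closedPoint Ω, Subsingleton.elim (α := PrimeSpectrum k) _ _⟩⟩
    haveI : Surjective (pullback.fst B.hom (ext k Ω)) := MorphismProperty.pullback_fst _ _ inferInstance
    obtain ⟨b', rfl⟩ := (pullback.fst B.hom (ext k Ω)).surjective b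
    have h := (hPa a).1
    rw [← hmap] at h
    refine Eq.trans ?_ (h ‹_› b')
    exact congrArg Nat.cast (Scheme.Hom.finrank_of_isPullback _ _ _ _ (isPullback_map (Ω := Ω) (∏ i, e i ^ a i)) b').symm
  · refine isFinite_of_bc Ω hgA hgB hgA' hgB' _ ?_
    rw [hmap]
    exact h

end Groth.Agent.AVDegPoly
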