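import Groth.Agent.AVDegPoly.Growth
import Groth.Agent.AbTors.Deg
import Groth.Agent.SurfInt.Basic
import Groth.Agent.S0051
import Mathlib.Analysis.Polynomial.Basic
import Mathlib.Algebra.MvPolynomial.Funext

/-!
The leading coefficient of `m ↦ χ(c ^ m)` at degree `g` and its behaviour under finite surjections.
-/

noncomputable section

set_option linter.style.haveILetI false
set_option linter.unusedSectionVars false
set_option backward.isDefEq.respectTransparency false
set_option backward.isDefEq.respectTransparency.types false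
set_option maxHeartbeats 1000000
set_option autoImplicit false

universe u

open CategoryTheory CategoryTheory.Limits AlgebraicGeometry TopologicalSpace Opposite Polynomial Filter

namespace Groth.Agent.AVDegPoly

open Groth.Agent.H23
open scoped Groth.Agent.H23.PicMul

theorem coeff_nonneg_of_eventually {Q : ℚ[X]} {g : ℕ} (hQ : Q.natDegree ≤ g) {M₀ : ℕ}
    (h : ∀ M : ℕ, M₀ ≤ M → 0 ≤ Q.eval (M : ℚ)) : 0 ≤ Q.coeff g := by
  rcases hQ.lt_or_eq with hlt | heq
  · rw [Polynomial.coeff_eq_zero_of_natDegree_lt hlt]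
  · by_contra hneg
    rw [not_le, ← heq] at hneg
    rcases Nat.eq_zero_or_pos Q.natDegree with h0 | hpos
    · have h1 := h M₀ le_rfl
      rw [Polynomial.eq_C_of_natDegree_eq_zero h0, eval_C] at h1
      rw [h0] at hneg
      exact absurd h1 (not_le.2 hneg)
    · have ht := (Q.tendsto_atBot_of_leadingCoeff_nonpos (natDegree_pos_iff_degree_pos.1 hpos) hneg.le).comp
        (tendsto_natCast_atTop_atTop (R := ℚ))
      obtain ⟨N, hN⟩ := (Filter.eventually_atTop).1 (ht.eventually (eventually_lt_atBot (0 : ℚ)))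
      exact absurd (h (max N M₀) (le_max_right _ _)) (not_le.2 (hN _ (le_max_left _ _)))

theorem coeff_comp_shift (Q : ℚ[X]) {g : ℕ} (hQ : Q.natDegree ≤ g) (e : ℚ) :
    (Q.comp (X + C e)).natDegree ≤ g ∧ (Q.comp (X + C e)).coeff g = Q.coeff g := by
  have hd : (Q.comp (X + C e)).natDegree = Q.natDegree := by rw [natDegree_comp, natDegree_X_add_C, mul_one]
  refine ⟨hd ▸ hQ, ?_⟩
  rcases hQ.lt_or_eq with hlt | rfl
  · rw [coeff_eq_zero_of_natDegree_lt hlt, coeff_eq_zero_of_natDegree_lt (hd ▸ hlt)]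
  · have h := leadingCoeff_comp (p := Q) (q := X + C e) (by simp)
    rw [leadingCoeff_X_add_C, one_pow, mul_one, leadingCoeff, hd] at h
    exact h

theorem natDegree_comp_mul_le (Q : ℚ[X]) {g : ℕ} (hQ : Q.natDegree ≤ g) (c : ℚ) :
    (Q.comp (C c * X)).natDegree ≤ g ∧ (Q.comp (C c * X)).coeff g = Q.coeff g * c ^ g :=
  ⟨natDegree_comp_le.trans ((Nat.mul_le_mul hQ (natDegree_C_mul_le c X)).trans (by simp)), comp_C_mul_X_coeff⟩

variable (k : Type u) [Field k] {X : Scheme.{u}} [X.Over (Spec (CommRingCat.of k))]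
  [IsProper (X ↘ Spec (CommRingCat.of k))]

/-- Euler characteristics of classes. -/
abbrev chi : PicF.Cl X → ℤ := SurfInt.chiCl k (Coh.structureModule X)

/-- `v` is the coefficient of degree `g` of `m ↦ χ(c ^ m)`. -/
def IsTop (g : ℕ) (c : PicF.Cl X) (v : ℚ) : Prop :=
  ∃ Q : ℚ[X], Q.natDegree ≤ g ∧ Q.coeff g = v ∧ ∀ m : ℕ, (chi k (c ^ m) : ℚ) = Q.eval (m : ℚ)

theorem IsTop.unique {g : ℕ} {c : PicF.Cl X} {v w : ℚ} (hv : IsTop k g c v) (hw : IsTop k g c w) : v = w := by
  obtain ⟨Q, -, rfl, hQ⟩ := hv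
  obtain ⟨R, -, rfl, hR⟩ := hw
  have : Q = R := Polynomial.eq_of_infinite_eval_eq Q R
    ((Set.infinite_range_of_injective (Nat.cast_injective (R := ℚ))).mono (by
      rintro _ ⟨m, rfl⟩; show Q.eval _ = R.eval _; rw [← hQ, ← hR]))
  rw [this]

theorem IsTop.pow {g : ℕ} {c : PicF.Cl X} {v : ℚ} (hv : IsTop k g c v) (a : ℕ) :
    IsTop k g (c ^ a) (v * (a : ℚ) ^ g) := by
  obtain ⟨Q, hd, rfl, hQ⟩ := hv
  obtain ⟨h1, h2⟩ := natDegree_comp_mul_le Q hd (a : ℚ)
  refine ⟨_, h1, h2, fun m => ?_⟩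
  rw [← pow_mul, hQ, eval_comp, eval_mul, eval_C, eval_X]
  push_cast
  ring_nf

theorem coeff_aeval_line {σ : Type*} (e : σ → ℚ) {g : ℕ} (F : MvPolynomial σ ℚ) :
    (MvPolynomial.aeval (fun i => C (e i) * Polynomial.X) F).coeff g =
      MvPolynomial.eval e (MvPolynomial.homogeneousComponent g F) := by
  induction F using MvPolynomial.induction_on' with
  | monomial α c =>
    have h : MvPolynomial.aeval (fun i => C (e i) * Polynomial.X) (MvPolynomial.monomial α c) =
        C (MvPolynomial.eval e (MvPolynomial.monomial α c)) * Polynomial.X ^ α.degree := by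
      rw [MvPolynomial.aeval_monomial, MvPolynomial.eval_monomial, Finsupp.prod, Finsupp.prod, Finsupp.degree_apply,
        Polynomial.algebraMap_eq, map_mul, map_prod, ← Finset.prod_pow_eq_pow_sum, mul_assoc, ← Finset.prod_mul_distrib]
      exact congrArg _ (Finset.prod_congr rfl fun i _ => by rw [mul_pow, map_pow])
    rw [h, coeff_C_mul_X_pow]
    by_cases hg : g = α.degree
    · rw [if_pos hg, MvPolynomial.homogeneousComponent_of_mem
        (MvPolynomial.isHomogeneous_monomial (n := α.degree) c rfl), if_pos hg]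
    · rw [if_neg hg, MvPolynomial.homogeneousComponent_of_mem
        (MvPolynomial.isHomogeneous_monomial (n := α.degree) c rfl), if_neg hg, map_zero]
  | add F G hF hG => rw [map_add, map_add, coeff_add, hF, hG, map_add]

theorem natDegree_aeval_line_le {σ : Type*} (e : σ → ℚ) (F : MvPolynomial σ ℚ) :
    (MvPolynomial.aeval (fun i => C (e i) * Polynomial.X) F).natDegree ≤ F.totalDegree := by
  rw [F.as_sum, map_sum]
  refine natDegree_sum_le_of_forall_le _ _ fun α hα => ?_
  rw [MvPolynomial.aeval_monomial, Polynomial.algebraMap_eq, ← F.as_sum]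
  refine (natDegree_C_mul_le _ _).trans ((natDegree_prod_le _ _).trans ?_)
  refine le_trans (Finset.sum_le_sum fun i _ => ?_) (MvPolynomial.le_totalDegree hα)
  exact natDegree_pow_le.trans ((Nat.mul_le_mul_left _ ((natDegree_C_mul_le _ _).trans natDegree_X_le)).trans (by simp))

theorem eval_aeval_line {σ : Type*} (e : σ → ℚ) (F : MvPolynomial σ ℚ) (t : ℚ) :
    (MvPolynomial.aeval (fun i => C (e i) * Polynomial.X) F).eval t = MvPolynomial.eval (fun i => e i * t) F := by
  rw [← Polynomial.coe_aeval_eq_eval, MvPolynomial.comp_aeval_apply, MvPolynomial.aeval_eq_eval]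
  refine congrArg (fun f => MvPolynomial.eval f F) (funext fun i => ?_)
  simp

/-- The Euler characteristics of the monomials in finitely many classes. -/
theorem exists_chi_poly {g : ℕ} (hg : topologicalKrullDim X ≤ g) {r : ℕ} (P : Fin r → PicF.Cl X)
    (hP : ∀ i, PicF.IsInvertibleCl (P i)) :
    ∃ F : MvPolynomial (Fin r) ℚ, F.totalDegree ≤ g ∧
      ∀ n : Fin r → ℕ, (chi k (∏ i, P i ^ n i) : ℚ) = MvPolynomial.eval (fun i => (n i : ℚ)) F := by
  haveI := SurfInt.noeth k (X := X)
  choose M hM hMi using hP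
  obtain ⟨F, hF, hFn⟩ := Snapper.exists_mpoly k hMi SurfInt.isCoh_structureModule
    (SurfInt.dim_support_le hg (Coh.structureModule X))
  refine ⟨F, hF, fun n => ?_⟩
  rw [← hFn n, show (∏ i, P i ^ n i) = ∏ i, PicF.cl (M i) ^ n i from
    Finset.prod_congr rfl fun i _ => by rw [hM i], ← SurfInt.cl_multiTwist]
  exact congrArg Int.cast (CurveCohLib.euler_congr (k := k) (Snapper.multiTwist_iso M n _).some)

theorem exists_isTop {g : ℕ} (hg : topologicalKrullDim X ≤ g) {c : PicF.Cl X} (hc : PicF.IsInvertibleCl c) :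
    ∃ v, IsTop k g c v := by
  obtain ⟨F, hF, hFn⟩ := exists_chi_poly k hg (fun _ : Fin 1 => c) fun _ => hc
  refine ⟨_, MvPolynomial.aeval (fun _ => C (1 : ℚ) * Polynomial.X) F,
    (natDegree_aeval_line_le (fun _ => 1) F).trans hF, rfl, fun m => ?_⟩
  have h := hFn fun _ => m
  rw [Fin.prod_univ_one] at h
  rw [h, eval_aeval_line]
  simp only [one_mul]

/-- For an ample class the Euler characteristic of high powers is the dimension of the sections. -/
theorem exists_chi_eq_h0 {L : X.Modules} (hL : CohB1.IsAmple L) :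
    ∃ N, ∀ n, N ≤ n → chi k (PicF.cl L ^ n) = (Module.finrank k (Coh.HH X (CohB1.tensorPow L n) 0) : ℤ) := by
  haveI := SurfInt.noeth k (X := X)
  obtain ⟨N, hN⟩ := (S0051.result k X (X ↘ Spec (CommRingCat.of k)) L hL.1).1 hL _ SurfInt.isCoh_structureModule
  refine ⟨N, fun n hn => ?_⟩
  rw [← PicMul.cl_tensorPow]
  refine (SurfInt.chiCl_structureModule k _).trans ?_
  rw [Euler.euler_eq_sum k _ 1 fun i hi => ?_]
  · simp
  · obtain ⟨e⟩ : Nonempty (CohB1.tensorMod (Coh.structureModule X) (CohB1.tensorPow L n) ≅ CohB1.tensorPow L n) :=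
      ⟨CurveTensor.structureTensorIso _⟩
    haveI := hN n hn i hi
    refine subsingleton_of_forall_eq 0 fun y => ?_
    have h1 : Sheaf.H.map ((QCoh.toAbFunctor X).map e.hom) i
        (Sheaf.H.map ((QCoh.toAbFunctor X).map e.inv) i y) = y :=
      (Groth.Agent.PnCoh.Finite.map_map (Y := X.toPresheafedSpace.carrier)
        (((QCoh.toAbFunctor X).map_comp e.inv e.hom).symm.trans
          (by rw [e.inv_hom_id, CategoryTheory.Functor.map_id]; rfl)) i y).trans (Sheaf.H.map_id_apply y)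
    rw [← h1]
    exact (congrArg _ (show Sheaf.H.map ((QCoh.toAbFunctor X).map e.inv) i y = 0 from
      @Subsingleton.elim (Coh.HH X _ i) _ _ _)).trans (map_zero _)

/-- The degree scales the leading coefficient, which is positive for an ample class. -/
theorem isTop_pullback {A B : Over (Spec (CommRingCat.of k))} [IsIntegral A.left] [IsIntegral B.left]
    [IsProper A.hom] [IsProper B.hom] {g : ℕ} (hgA : topologicalKrullDim A.left = g) (hgB : topologicalKrullDim B.left = g)
    (φ : A ⟶ B) [IsFinite φ.left] [Surjective φ.left] [Flat φ.left] [LocallyOfFinitePresentation φ.left]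
    {L : B.left.Modules} (hL : CohB1.IsAmple L) (y : B.left) :
    letI : A.left.Over (Spec (CommRingCat.of k)) := ⟨A.hom⟩
    letI : B.left.Over (Spec (CommRingCat.of k)) := ⟨B.hom⟩
    ∀ (_ : IsProper (A.left ↘ Spec (CommRingCat.of k))) (_ : IsProper (B.left ↘ Spec (CommRingCat.of k))) {v w : ℚ},
      IsTop k g (PicF.cl L) v → IsTop k g (PicF.pullCl φ.left (PicF.cl L)) w →
        0 < v ∧ w = φ.left.finrank y * v := by
  letI : A.left.Over (Spec (CommRingCat.of k)) := ⟨A.hom⟩
  letI : B.left.Over (Spec (CommRingCat.of k)) := ⟨B.hom⟩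
  intro _ _ v w hv hw
  obtain ⟨a, e, E, c, ha, hc, hlo, hge, hle⟩ := exists_growth hgA hgB φ hL y
  set d := φ.left.finrank y
  let L' := CohB1.tensorPow L a
  let P := (Scheme.Modules.pullback φ.left).obj L'
  have hL' : CohB1.IsAmple L' := AmpleX.isAmple_tensorPow hL ha
  haveI : CompactSpace A.left := QuasiCompact.compactSpace_of_compactSpace A.hom
  have hP : CohB1.IsAmple P := AbTors.isAmple_pullback_of_isAffineHom φ.left hL'
  have hv' := hv.pow k a
  have hw' := hw.pow k a
  rw [← PicMul.pullCl_pow, ← PicMul.cl_tensorPow] at hw'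
  rw [← PicMul.cl_tensorPow] at hv'
  obtain ⟨Q1, hd1, hq1, hQ1⟩ := hv'
  obtain ⟨Q2, hd2, hq2, hQ2⟩ := hw'
  obtain ⟨N1, hN1⟩ := exists_chi_eq_h0 k hL'
  obtain ⟨N2, hN2⟩ := exists_chi_eq_h0 k hP
  have e1 : ∀ n, N1 ≤ n → (h0pow L' n : ℚ) = Q1.eval (n : ℚ) := fun n hn => by
    rw [← hQ1, hN1 n hn]; rfl
  have e2 : ∀ n, N2 ≤ n → (h0pow P n : ℚ) = Q2.eval (n : ℚ) := fun n hn => by
    rw [← hQ2]
    refine Eq.trans ?_ (congrArg Int.cast (hN2 n hn)).symm
    rfl
  have hcast : ∀ j M : ℕ, ((M + j : ℕ) : ℚ) = (Polynomial.X + C (j : ℚ)).eval (M : ℚ) := fun j M => by simp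
  obtain ⟨hs1, hs1'⟩ := coeff_comp_shift Q2 hd2 (e : ℚ)
  obtain ⟨hs2, hs2'⟩ := coeff_comp_shift Q1 hd1 (E : ℚ)
  have h1 := coeff_nonneg_of_eventually (Q := Q2.comp (Polynomial.X + C (e : ℚ)) - C (d : ℚ) * Q1) (g := g)
    (natDegree_sub_le_of_le hs1 ((natDegree_C_mul_le _ _).trans hd1) |>.trans (max_self g).le) (M₀ := max N1 N2)
    fun M hM => by
      rw [eval_sub, eval_mul, eval_C, eval_comp, ← hcast, ← e1 M (le_of_max_le_left hM),
        ← e2 _ ((le_of_max_le_right hM).trans (Nat.le_add_right _ _)), sub_nonneg]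
      exact_mod_cast hge M
  have h2 := coeff_nonneg_of_eventually (Q := C (d : ℚ) * Q1.comp (Polynomial.X + C (E : ℚ)) - Q2) (g := g)
    (natDegree_sub_le_of_le ((natDegree_C_mul_le _ _).trans hs2) hd2 |>.trans (max_self g).le) (M₀ := max N1 N2)
    fun M hM => by
      rw [eval_sub, eval_mul, eval_C, eval_comp, ← hcast, ← e1 _ ((le_of_max_le_left hM).trans (Nat.le_add_right _ _)),
        ← e2 M (le_of_max_le_right hM), sub_nonneg]
      exact_mod_cast hle M
  rw [coeff_sub, coeff_C_mul, hs1', hq1, hq2, sub_nonneg] at h1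
  rw [coeff_sub, coeff_C_mul, hs2', hq1, hq2, sub_nonneg] at h2
  obtain ⟨hm1, hm1'⟩ := natDegree_comp_mul_le Q1 hd1 (c : ℚ)
  have h3 := coeff_nonneg_of_eventually (Q := Q1.comp (C (c : ℚ) * Polynomial.X) - Polynomial.X ^ g) (g := g)
    (natDegree_sub_le_of_le hm1 (natDegree_X_pow_le g) |>.trans (max_self g).le) (M₀ := N1)
    fun M hM => by
      rw [eval_sub, eval_pow, eval_X, eval_comp, eval_mul, eval_C, eval_X, sub_nonneg]
      have h := e1 (c * M) (hM.trans (Nat.le_mul_of_pos_left M hc))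
      push_cast at h
      rw [← h]
      exact_mod_cast (Nat.pow_le_pow_left (Nat.le_succ M) g).trans (hlo M)
  rw [coeff_sub, hm1', hq1, coeff_X_pow_self, sub_nonneg] at h3
  have ha' : (0 : ℚ) < (a : ℚ) ^ g := pow_pos (by exact_mod_cast ha) _
  have hc' : (0 : ℚ) < (c : ℚ) ^ g := pow_pos (by exact_mod_cast hc) _
  refine ⟨?_, mul_right_cancel₀ ha'.ne' ?_⟩
  · have := pos_of_mul_pos_left (lt_of_lt_of_le one_pos h3) hc'.le
    exact pos_of_mul_pos_left this ha'.le
  · rw [mul_assoc]
    exact le_antisymm h2 h1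

end Groth.Agent.AVDegPoly
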