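import Mathlib.NumberTheory.Padics.Complex
import Mathlib.NumberTheory.Padics.RingHoms
import Mathlib.FieldTheory.Minpoly.IsIntegrallyClosed
import Mathlib.RingTheory.Polynomial.RationalRoot

/-!
Monic polynomials with the same absolute resultants against all integral monic polynomials agree.
-/

noncomputable section

set_option linter.style.haveILetI false
set_option linter.unusedSectionVars false
set_option autoImplicit false
set_option maxHeartbeats 1000000

open Polynomial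
open scoped Classical

namespace Groth.Agent.AVDegPoly

variable {p : ℕ} [Fact p.Prime]

local notation "𝕂" => PadicAlgCl p

/-- The embedding of the `p`-adic integers. -/
abbrev zpHom (p : ℕ) [Fact p.Prime] : ℤ_[p] →+* PadicAlgCl p :=
  (algebraMap ℚ_[p] (PadicAlgCl p)).comp (algebraMap ℤ_[p] ℚ_[p])

theorem norm_zpHom (x : ℤ_[p]) : ‖zpHom p x‖ = ‖x‖ := PadicAlgCl.norm_extends p _

theorem norm_root_le_one {F : ℤ_[p][X]} (hF : F.Monic) {a : 𝕂} (ha : F.eval₂ (zpHom p) a = 0) : ‖a‖ ≤ 1 := by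
  by_contra hgt
  rw [not_le] at hgt
  have hsum : a ^ F.natDegree = -∑ i ∈ Finset.range F.natDegree, zpHom p (F.coeff i) * a ^ i := by
    rw [eval₂_eq_sum_range, Finset.sum_range_succ, hF.coeff_natDegree, map_one, one_mul, add_comm] at ha
    exact eq_neg_of_add_eq_zero_left ha
  rcases Nat.eq_zero_or_pos F.natDegree with h0 | hpos
  · rw [h0, Finset.range_zero, Finset.sum_empty, neg_zero, pow_zero] at hsum
    exact one_ne_zero hsum
  have hle : ‖∑ i ∈ Finset.range F.natDegree, zpHom p (F.coeff i) * a ^ i‖ ≤ ‖a‖ ^ (F.natDegree - 1) :=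
    IsUltrametricDist.norm_sum_le_of_forall_le_of_nonneg (pow_nonneg (norm_nonneg a) _) fun i hi => by
      rw [norm_mul, norm_pow, norm_zpHom]
      refine (mul_le_of_le_one_left (pow_nonneg (norm_nonneg a) _) (PadicInt.norm_le_one _)).trans ?_
      exact pow_le_pow_right₀ hgt.le (by have := Finset.mem_range.1 hi; omega)
  rw [← norm_neg, ← hsum, norm_pow] at hle
  exact absurd hle (not_le.2 (pow_lt_pow_right₀ hgt (by omega)))

/-- Two monic polynomials with equally many roots conjugate to each element are equal. -/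
theorem eq_of_countP {F L : Type*} [Field F] [Field L] [Algebra F L] [IsAlgClosed L] [Algebra.IsAlgebraic F L]
    [DecidableEq L] : ∀ (N : ℕ) (P Q : F[X]), P.natDegree ≤ N → P.Monic → Q.Monic →
    (∀ a : L, (P.map (algebraMap F L)).roots.countP (fun x => aeval x (minpoly F a) = 0) =
      (Q.map (algebraMap F L)).roots.countP (fun x => aeval x (minpoly F a) = 0)) → P = Q := by
  intro N
  induction N using Nat.strong_induction_on with
  | _ N ih =>
    intro P Q hN hP hQ hc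
    rcases Nat.eq_zero_or_pos P.natDegree with h0 | hpos
    · rw [eq_one_of_monic_natDegree_zero hP h0]
      by_contra hne
      obtain ⟨b, hb⟩ := IsAlgClosed.exists_aeval_eq_zero L Q (by
        intro hdeg
        exact hne (eq_one_of_monic_natDegree_zero hQ (natDegree_eq_zero_iff_degree_le_zero.2 hdeg.le)).symm)
      have hmem : b ∈ (Q.map (algebraMap F L)).roots := by
        rw [mem_roots (hQ.map _).ne_zero, IsRoot, eval_map, ← aeval_def, hb]
      have h1 := hc b
      rw [eq_one_of_monic_natDegree_zero hP h0, Polynomial.map_one, roots_one] at h1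
      exact absurd h1.symm (Multiset.countP_pos.2 ⟨b, hmem, minpoly.aeval F b⟩).ne'
    obtain ⟨a, ha⟩ := IsAlgClosed.exists_aeval_eq_zero L P (natDegree_pos_iff_degree_pos.1 hpos).ne'
    have hint : IsIntegral F a := Algebra.IsIntegral.isIntegral a
    have hmem : a ∈ (P.map (algebraMap F L)).roots := by
      rw [mem_roots (hP.map _).ne_zero, IsRoot, eval_map, ← aeval_def, ha]
    have h1 : 0 < (Q.map (algebraMap F L)).roots.countP (fun x => aeval x (minpoly F a) = 0) := by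
      rw [← hc a]
      exact Multiset.countP_pos.2 ⟨a, hmem, minpoly.aeval F a⟩
    obtain ⟨x, hx, hxa⟩ := Multiset.countP_pos.1 h1
    rw [mem_roots (hQ.map _).ne_zero, IsRoot, eval_map, ← aeval_def] at hx
    have hmin : minpoly F a = minpoly F x :=
      minpoly.eq_of_irreducible_of_monic (minpoly.irreducible hint) hxa (minpoly.monic hint)
    obtain ⟨P₁, hP₁⟩ := minpoly.dvd F a ha
    obtain ⟨Q₁, hQ₁⟩ : minpoly F a ∣ Q := hmin ▸ minpoly.dvd F x hx
    have hP₁m : P₁.Monic := (minpoly.monic hint).of_mul_monic_left (hP₁ ▸ hP)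
    have hQ₁m : Q₁.Monic := (minpoly.monic hint).of_mul_monic_left (hQ₁ ▸ hQ)
    have hdeg : P₁.natDegree < N := by
      have := (minpoly.monic hint).natDegree_mul hP₁m
      rw [← hP₁] at this
      have := minpoly.natDegree_pos hint
      omega
    rw [hP₁, hQ₁, ih P₁.natDegree hdeg P₁ Q₁ le_rfl hP₁m hQ₁m fun b => ?_]
    have h2 := hc b
    rw [hP₁, hQ₁, Polynomial.map_mul, Polynomial.map_mul,
      roots_mul (mul_ne_zero ((minpoly.monic hint).map _).ne_zero (hP₁m.map _).ne_zero),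
      roots_mul (mul_ne_zero ((minpoly.monic hint).map _).ne_zero (hQ₁m.map _).ne_zero),
      Multiset.countP_add, Multiset.countP_add] at h2
    omega

/-- The norm of the product of the values at the roots, for large parameters. -/
theorem exists_norm_prod_eq {F : ℤ_[p][X]} (hF : F.Monic) (G : ℤ_[p][X]) (hG : G.Monic) (hd : 0 < G.natDegree) :
    ∃ (C : ℝ) (N : ℕ), C ≠ 0 ∧ ∀ n, N ≤ n → ∀ q : ℤ[X], q.Monic →
      (∀ i, ‖((q.coeff i : ℤ) : ℤ_[p]) - (G + Polynomial.C ((p : ℤ_[p]) ^ n)).coeff i‖ ≤ ((p : ℝ)⁻¹) ^ (n + 1)) →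
        q.natDegree ≤ G.natDegree →
        ‖((F.map (zpHom p)).roots.map fun a => q.eval₂ (Int.castRingHom 𝕂) a).prod‖ =
          C * (((p : ℝ)⁻¹) ^ n) ^ ((F.map (zpHom p)).roots.countP fun a => G.eval₂ (zpHom p) a = 0) := by
  classical
  set R := (F.map (zpHom p)).roots
  have hp0 : (0 : ℝ) < (p : ℝ)⁻¹ := inv_pos.2 (by exact_mod_cast (Fact.out : p.Prime).pos)
  have hp1 : (p : ℝ)⁻¹ < 1 := inv_lt_one_of_one_lt₀ (by exact_mod_cast (Fact.out : p.Prime).one_lt)
  let S := R.toFinset.filter fun a => G.eval₂ (zpHom p) a ≠ 0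
  obtain ⟨N, hN⟩ : ∃ N : ℕ, ∀ n, N ≤ n → ∀ a ∈ S, ((p : ℝ)⁻¹) ^ n < ‖G.eval₂ (zpHom p) a‖ := by
    have : ∀ a ∈ S, ∃ N : ℕ, ((p : ℝ)⁻¹) ^ N < ‖G.eval₂ (zpHom p) a‖ := fun a ha =>
      exists_pow_lt_of_lt_one (norm_pos_iff.2 (Finset.mem_filter.1 ha).2) hp1
    choose f hf using this
    refine ⟨S.attach.sup fun a => f a.1 a.2, fun n hn a ha => lt_of_le_of_lt ?_ (hf a ha)⟩
    exact pow_le_pow_of_le_one hp0.le hp1.le
      ((Finset.le_sup (f := fun a : S => f a.1 a.2) (Finset.mem_attach S ⟨a, ha⟩)).trans hn)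
  refine ⟨((R.filter fun a => ¬ G.eval₂ (zpHom p) a = 0).map fun a => ‖G.eval₂ (zpHom p) a‖).prod, N, ?_, ?_⟩
  · refine Multiset.prod_ne_zero fun h => ?_
    obtain ⟨a, ha, h0⟩ := Multiset.mem_map.1 h
    exact (Multiset.mem_filter.1 ha).2 (norm_eq_zero.1 h0)
  intro n hn q hq hqG hqd
  have hval : ∀ a ∈ R, ‖q.eval₂ (Int.castRingHom 𝕂) a‖ =
      if G.eval₂ (zpHom p) a = 0 then ((p : ℝ)⁻¹) ^ n else ‖G.eval₂ (zpHom p) a‖ := by
    intro a ha
    have ha1 : ‖a‖ ≤ 1 := norm_root_le_one hF (by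
      have := (mem_roots (hF.map _).ne_zero).1 ha
      rwa [IsRoot, eval_map] at this)
    let H := G + Polynomial.C ((p : ℤ_[p]) ^ n)
    have hHd : H.natDegree ≤ G.natDegree := (natDegree_add_le _ _).trans (by simp)
    have hHa : H.eval₂ (zpHom p) a = G.eval₂ (zpHom p) a + (p : 𝕂) ^ n := by
      rw [eval₂_add, eval₂_C, map_pow, map_natCast]
    have hdiff : ‖q.eval₂ (Int.castRingHom 𝕂) a - H.eval₂ (zpHom p) a‖ ≤ ((p : ℝ)⁻¹) ^ (n + 1) := by
      rw [eval₂_eq_sum_range' _ (Nat.lt_succ_of_le hqd) a, eval₂_eq_sum_range' _ (Nat.lt_succ_of_le hHd) a,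
        ← Finset.sum_sub_distrib]
      refine IsUltrametricDist.norm_sum_le_of_forall_le_of_nonneg (pow_nonneg hp0.le _) fun i _ => ?_
      rw [← sub_mul, norm_mul, norm_pow, eq_intCast, ← map_intCast (zpHom p), ← map_sub, norm_zpHom]
      exact le_trans (mul_le_of_le_one_right (norm_nonneg _) (pow_le_one₀ (norm_nonneg a) ha1)) (hqG i)
    have hpn : ‖(p : 𝕂) ^ n‖ = ((p : ℝ)⁻¹) ^ n := by
      rw [norm_pow, ← map_natCast (zpHom p), norm_zpHom, PadicInt.norm_p]
    have hlt : ((p : ℝ)⁻¹) ^ (n + 1) < ((p : ℝ)⁻¹) ^ n := pow_lt_pow_right_of_lt_one₀ hp0 hp1 (Nat.lt_succ_self n)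
    have hmain : ∀ {c : ℝ}, ‖H.eval₂ (zpHom p) a‖ = c → ((p : ℝ)⁻¹) ^ (n + 1) < c →
        ‖q.eval₂ (Int.castRingHom 𝕂) a‖ = c := fun {c} hc hlt' => by
      rw [← sub_add_cancel (q.eval₂ (Int.castRingHom 𝕂) a) (H.eval₂ (zpHom p) a),
        IsUltrametricDist.norm_add_eq_max_of_norm_ne_norm, hc, max_eq_right (hdiff.trans hlt'.le)]
      exact ((hdiff.trans_lt hlt').trans_le hc.ge).ne
    split_ifs with h0
    · exact hmain (by rw [hHa, h0, zero_add, hpn]) hlt
    · have hlt' := hN n hn a (Finset.mem_filter.2 ⟨Multiset.mem_toFinset.2 ha, h0⟩)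
      refine hmain ?_ (hlt.trans hlt')
      rw [hHa, IsUltrametricDist.norm_add_eq_max_of_norm_ne_norm (by rw [hpn]; exact hlt'.ne'), hpn,
        max_eq_left hlt'.le]
  have hprod : ∀ (s : Multiset 𝕂) (f : 𝕂 → 𝕂), ‖(s.map f).prod‖ = (s.map fun a => ‖f a‖).prod := fun s f => by
    induction s using Multiset.induction_on with
    | empty => simp
    | cons a s ih => simp [ih]
  rw [hprod, Multiset.map_congr rfl (g := fun a => if G.eval₂ (zpHom p) a = 0 then ((p : ℝ)⁻¹) ^ n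
      else ‖G.eval₂ (zpHom p) a‖) fun a ha => hval a ha]
  conv_lhs => rw [← Multiset.filter_add_not (fun a => G.eval₂ (zpHom p) a = 0) R]
  rw [Multiset.map_add, Multiset.prod_add, mul_comm, Multiset.countP_eq_card_filter]
  congr 1
  · refine congrArg Multiset.prod (Multiset.map_congr rfl fun a ha => if_neg (Multiset.mem_filter.1 ha).2)
  · rw [Multiset.map_congr rfl (g := fun _ => ((p : ℝ)⁻¹) ^ n) fun a ha => if_pos (Multiset.mem_filter.1 ha).2,
      Multiset.map_const', Multiset.prod_replicate]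

/-- Monic polynomials with the same absolute resultants against all integral monic polynomials are equal. -/
theorem eq_of_norm_resultant (P : ℤ[X]) (hP : P.Monic) (χ : ℤ_[p][X]) (hχ : χ.Monic)
    (h : ∀ q : ℤ[X], q.Monic →
      ‖((P.map (Int.castRingHom 𝕂)).roots.map fun a => q.eval₂ (Int.castRingHom 𝕂) a).prod‖ =
        ‖((χ.map (zpHom p)).roots.map fun a => q.eval₂ (Int.castRingHom 𝕂) a).prod‖) :
    P.map (Int.castRingHom ℤ_[p]) = χ := by
  classical
  refine Polynomial.map_injective (algebraMap ℤ_[p] ℚ_[p]) Subtype.val_injective ?_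
  set P' := P.map (Int.castRingHom ℤ_[p])
  have hP' : P'.Monic := hP.map _
  have hroots : ∀ F : ℤ_[p][X], (F.map (algebraMap ℤ_[p] ℚ_[p])).map (algebraMap ℚ_[p] 𝕂) = F.map (zpHom p) :=
    fun F => Polynomial.map_map _ _ _
  have hPK : P'.map (zpHom p) = P.map (Int.castRingHom 𝕂) := by
    rw [Polynomial.map_map]
    exact congrArg (fun f => P.map f) (RingHom.ext_int _ _)
  refine eq_of_countP (L := 𝕂) (P'.map (algebraMap ℤ_[p] ℚ_[p])).natDegree _ _ le_rfl (hP'.map _) (hχ.map _) fun b => ?_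
  rw [hroots, hroots]
  -- only conjugacy classes of roots matter
  by_cases hb : ∃ a, (a ∈ (P'.map (zpHom p)).roots ∨ a ∈ (χ.map (zpHom p)).roots) ∧ aeval a (minpoly ℚ_[p] b) = 0
  swap
  · rw [Multiset.countP_eq_zero.2 fun a ha hab => hb ⟨a, Or.inl ha, hab⟩,
      Multiset.countP_eq_zero.2 fun a ha hab => hb ⟨a, Or.inr ha, hab⟩]
  obtain ⟨a, hmem, hab⟩ := hb
  obtain ⟨F, hF, hFa⟩ : ∃ F : ℤ_[p][X], F.Monic ∧ F.eval₂ (zpHom p) a = 0 := by
    rcases hmem with h | h
    · exact ⟨P', hP', by simpa [eval_map] using ((mem_roots (hP'.map _).ne_zero).1 h)⟩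
    · exact ⟨χ, hχ, by simpa [eval_map] using ((mem_roots (hχ.map _).ne_zero).1 h)⟩
  have halg : algebraMap ℤ_[p] 𝕂 = zpHom p := IsScalarTower.algebraMap_eq ℤ_[p] ℚ_[p] 𝕂
  have hint : IsIntegral ℤ_[p] a := ⟨F, hF, by rw [halg]; exact hFa⟩
  have hintb : IsIntegral ℚ_[p] b := Algebra.IsIntegral.isIntegral b
  have hmin : minpoly ℚ_[p] b = (minpoly ℤ_[p] a).map (algebraMap ℤ_[p] ℚ_[p]) := by
    rw [← minpoly.isIntegrallyClosed_eq_field_fractions ℚ_[p] 𝕂 hint]
    exact minpoly.eq_of_irreducible_of_monic (minpoly.irreducible hintb) hab (minpoly.monic hintb)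
  set G := minpoly ℤ_[p] a
  have hG : G.Monic := minpoly.monic hint
  have hd : 0 < G.natDegree := minpoly.natDegree_pos hint
  have hev : ∀ x : 𝕂, aeval x (minpoly ℚ_[p] b) = 0 ↔ G.eval₂ (zpHom p) x = 0 := fun x => by
    rw [hmin, aeval_map_algebraMap, aeval_def, halg]
  simp only [hev]
  obtain ⟨C₁, N₁, hC₁, h₁⟩ := exists_norm_prod_eq hP' G hG hd
  obtain ⟨C₂, N₂, hC₂, h₂⟩ := exists_norm_prod_eq hχ G hG hd
  have happrox : ∀ n, ∃ q : ℤ[X], q.Monic ∧ q.natDegree ≤ G.natDegree ∧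
      ∀ i, ‖((q.coeff i : ℤ) : ℤ_[p]) - (G + Polynomial.C ((p : ℤ_[p]) ^ n)).coeff i‖ ≤ ((p : ℝ)⁻¹) ^ (n + 1) := fun n => by
    let H := G + Polynomial.C ((p : ℤ_[p]) ^ n)
    let c : ℕ → ℤ := fun i => ((H.coeff i).appr (n + 1) : ℕ)
    let q : ℤ[X] := X ^ G.natDegree + ∑ i ∈ Finset.range G.natDegree, Polynomial.C (c i) * X ^ i
    have hlow : (∑ i ∈ Finset.range G.natDegree, Polynomial.C (c i) * X ^ i : ℤ[X]).degree < (G.natDegree : WithBot ℕ) := by
      refine (degree_sum_le _ _).trans_lt ((Finset.sup_lt_iff (WithBot.bot_lt_coe _)).2 fun i hi => ?_)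
      exact lt_of_le_of_lt (degree_C_mul_X_pow_le _ _) (by exact_mod_cast Finset.mem_range.1 hi)
    have hcoef : ∀ i, q.coeff i = if i = G.natDegree then 1 else if i < G.natDegree then c i else 0 := fun i => by
      simp only [q, coeff_add, coeff_X_pow, finsetSum_coeff, coeff_C_mul_X_pow, Finset.sum_ite_eq, Finset.mem_range]
      split_ifs <;> omega
    refine ⟨q, monic_X_pow_add hlow, ?_, fun i => ?_⟩
    · refine natDegree_le_iff_coeff_eq_zero.2 fun i hi => ?_
      rw [hcoef, if_neg (by omega), if_neg (by omega)]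
    · rw [hcoef]
      split_ifs with h1 h2
      · subst h1
        rw [coeff_add, hG.coeff_natDegree, coeff_C, if_neg (by omega), add_zero, Int.cast_one, sub_self, norm_zero]
        positivity
      · rw [norm_sub_rev, Int.cast_natCast, inv_pow, ← zpow_natCast, ← zpow_neg]
        exact (PadicInt.norm_le_pow_iff_mem_span_pow _ _).2 (PadicInt.appr_spec _ _)
      · rw [coeff_add, coeff_eq_zero_of_natDegree_lt (by omega), coeff_C, if_neg (by omega), add_zero, Int.cast_zero,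
          sub_self, norm_zero]
        positivity
  have heq : ∀ n, max N₁ N₂ ≤ n →
      C₁ * (((p : ℝ)⁻¹) ^ n) ^ ((P'.map (zpHom p)).roots.countP fun a => G.eval₂ (zpHom p) a = 0) =
        C₂ * (((p : ℝ)⁻¹) ^ n) ^ ((χ.map (zpHom p)).roots.countP fun a => G.eval₂ (zpHom p) a = 0) := fun n hn => by
    obtain ⟨q, hq, hqd, hqc⟩ := happrox n
    rw [← h₁ n (le_of_max_le_left hn) q hq hqc hqd, ← h₂ n (le_of_max_le_right hn) q hq hqc hqd, hPK]
    exact h q hq
  have hp0 : (0 : ℝ) < (p : ℝ)⁻¹ := inv_pos.2 (by exact_mod_cast (Fact.out : p.Prime).pos)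
  have hp1 : (p : ℝ)⁻¹ < 1 := inv_lt_one_of_one_lt₀ (by exact_mod_cast (Fact.out : p.Prime).one_lt)
  have e0 := heq (max N₁ N₂) le_rfl
  have e1 := heq (max N₁ N₂ + 1) (Nat.le_succ _)
  rw [pow_succ, mul_pow, mul_pow, ← mul_assoc, ← mul_assoc, e0] at e1
  exact (pow_right_injective₀ hp0 hp1.ne) (mul_left_cancel₀ (mul_ne_zero hC₂ (pow_ne_zero _ (pow_ne_zero _ hp0.ne'))) e1)

end Groth.Agent.AVDegPoly
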