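import Groth.Agent.AVDegLib.Pull
import Groth.Agent.H23.CubeAb
import Mathlib.FieldTheory.Galois.Basic

/-!
The rational points of the kernel of a finite surjective homomorphism act on the function field.
-/

noncomputable section

set_option linter.style.haveILetI false
set_option linter.unusedSectionVars false
set_option backward.isDefEq.respectTransparency false
set_option backward.isDefEq.respectTransparency.types false
set_option maxHeartbeats 1000000
set_option autoImplicit false

universe u

open CategoryTheory CategoryTheory.Limits MonoidalCategory CartesianMonoidalCategory MonObj AlgebraicGeometry TopologicalSpace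

namespace Groth.Agent.AVDegPoly

open Groth.Agent.AVDegLib

variable {k : Type u} [Field k] {A B C : Over (Spec (CommRingCat.of k))} [IsIntegral A.left] [IsIntegral B.left]
  [IsIntegral C.left]

theorem ffMap_comp (φ : A ⟶ B) (ψ : B ⟶ C) [IsFinite φ.left] [Surjective φ.left] [IsFinite ψ.left]
    [Surjective ψ.left] [IsFinite (φ ≫ ψ).left] [Surjective (φ ≫ ψ).left] :
    ffMap (φ ≫ ψ) = (ffMap φ).comp (ffMap ψ) := by
  refine RingHom.ext fun f => ?_
  obtain ⟨U, hU, hη, -⟩ := exists_isAffineOpen_mem_and_subset (x := genericPoint C.left) (U := ⊤) trivial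
  have key : ∀ r ∈ sect C U, ffMap (φ ≫ ψ) r = ffMap φ (ffMap ψ r) := fun r hr => by
    obtain ⟨a, rfl⟩ := hr hη
    rw [ffMap_gm _ hη, ffMap_gm _ hη, ffMap_gm _ (eta_preimage ψ hη)]
    rfl
  obtain ⟨a, ha, b, hb, -, rfl⟩ := frac_sect hU hη f
  rw [RingHom.comp_apply, map_div₀, map_div₀ (ffMap ψ), map_div₀ (ffMap φ), key a ha, key b hb]

theorem ffMap_congr {φ ψ : A ⟶ B} (h : φ = ψ) [IsFinite φ.left] [Surjective φ.left] [IsFinite ψ.left]
    [Surjective ψ.left] : ffMap φ = ffMap ψ := by subst h; rfl

/-- An endomorphism inducing the identity of the function field is the identity. -/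
theorem eq_id_of_ffMap [IsSeparated A.hom] (t : A ⟶ A) [IsFinite t.left] [Surjective t.left]
    (h : ffMap t = RingHom.id _) : t = 𝟙 A := by
  apply Over.OverMorphism.ext
  haveI : A.left.IsSeparated := ⟨by rw [← Limits.terminal.comp_from A.hom]; infer_instance⟩
  let j := A.left.fromSpecStalk (genericPoint A.left)
  haveI : IsDominant j := by
    refine ⟨fun x => ?_⟩
    rw [Scheme.range_fromSpecStalk]
    exact closure_mono (Set.singleton_subset_iff.2 (specializes_rfl : genericPoint A.left ⤳ genericPoint A.left))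
      (specializes_iff_mem_closure.1 (genericPoint_specializes x))
  refine ext_of_isDominant j ?_
  have hs : t.left (genericPoint A.left) ⤳ genericPoint A.left := by rw [map_eta]
  have h' : A.left.presheaf.stalkSpecializes hs ≫ t.left.stalkMap (genericPoint A.left) = 𝟙 _ :=
    CommRingCat.hom_ext h
  have h2 := congrArg (fun m => Spec.map m ≫ j) h'
  simp only [Spec.map_comp, Spec.map_id, Category.id_comp, Category.assoc] at h2
  rw [Scheme.SpecMap_stalkSpecializes_fromSpecStalk, Scheme.SpecMap_stalkMap_fromSpecStalk] at h2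
  rw [h2, Over.id_left, Category.comp_id]

variable [GrpObj A]

local notation "𝐩" => 𝟙_ (Over (Spec (CommRingCat.of k)))

/-- Translation by a point. -/
abbrev transl (P : 𝐩 ⟶ A) : A ⟶ A := (toUnit A ≫ P) * 𝟙 A

theorem transl_comp_transl (P Q : 𝐩 ⟶ A) : transl P ≫ transl Q = transl (Q * P) := by
  rw [transl, transl, transl, MonObj.comp_mul, Category.comp_id, ← Category.assoc, toUnit_unique (_ ≫ toUnit A) (toUnit A),
    ← _root_.mul_assoc, ← MonObj.comp_mul]

theorem transl_one : transl (1 : 𝐩 ⟶ A) = 𝟙 A := by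
  rw [transl, MonObj.comp_one, _root_.one_mul]

theorem isIso_transl (P : 𝐩 ⟶ A) : IsIso (transl P).left :=
  ⟨(transl P⁻¹).left, by rw [← Over.comp_left, transl_comp_transl, inv_mul_cancel, transl_one]; rfl,
    by rw [← Over.comp_left, transl_comp_transl, mul_inv_cancel, transl_one]; rfl⟩

/-- The rational points of the kernel of a finite surjective homomorphism act faithfully on the function field. -/
theorem exists_subgroup_card_ker [IsSeparated A.hom] [GrpObj B] (f : A ⟶ B) [IsMonHom f] [IsFinite f.left]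
    [Surjective f.left] :
    letI := ffExt f
    ∃ H : Subgroup (A.left.functionField ≃ₐ[B.left.functionField] A.left.functionField),
      Nat.card H = Nat.card {P : 𝐩 ⟶ A // P ≫ f = 1} := by
  letI := ffExt f
  haveI := finiteDimensional_ff f
  haveI : ∀ P : 𝐩 ⟶ A, IsIso (transl P).left := isIso_transl
  have hf : ∀ P : {P : 𝐩 ⟶ A // P ≫ f = 1}, transl P.1 ≫ f = f := fun P => by
    rw [transl, MonObj.mul_comp, Category.assoc, P.2, MonObj.comp_one, _root_.one_mul, Category.id_comp]
  have hfin : ∀ P : {P : 𝐩 ⟶ A // P ≫ f = 1}, IsFinite (transl P.1 ≫ f).left ∧ Surjective (transl P.1 ≫ f).left := fun P => by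
    rw [hf]; exact ⟨inferInstance, inferInstance⟩
  haveI : ∀ P Q : 𝐩 ⟶ A, IsFinite (transl P ≫ transl Q).left := fun P Q => by rw [Over.comp_left]; infer_instance
  haveI : ∀ P Q : 𝐩 ⟶ A, Surjective (transl P ≫ transl Q).left := fun P Q => by rw [Over.comp_left]; infer_instance
  haveI : IsFinite (𝟙 A ≫ 𝟙 A).left := by rw [Category.comp_id, Over.id_left]; infer_instance
  haveI : Surjective (𝟙 A ≫ 𝟙 A).left := by rw [Category.comp_id, Over.id_left]; infer_instance
  -- the automorphisms
  let hom : {P : 𝐩 ⟶ A // P ≫ f = 1} → (A.left.functionField →ₐ[B.left.functionField] A.left.functionField) := fun P =>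
    { ffMap (transl P.1) with
      commutes' := fun c => by
        haveI := (hfin P).1
        haveI := (hfin P).2
        show ffMap (transl P.1) (ffMap f c) = ffMap f c
        rw [← RingHom.comp_apply, ← ffMap_comp, ffMap_congr (hf P)] }
  have hinv : ∀ P : {P : 𝐩 ⟶ A // P ≫ f = 1}, P.1⁻¹ ≫ f = 1 := fun P => by
    rw [GrpObj.inv_comp, P.2, inv_one]
  have hid : ffMap (𝟙 A) = RingHom.id A.left.functionField := by
    have h := ffMap_comp (𝟙 A) (𝟙 A)
    rw [ffMap_congr (Category.id_comp (𝟙 A))] at h
    exact RingHom.ext fun z => (ffMap (𝟙 A)).injective (RingHom.congr_fun h z).symm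
  have hcomp : ∀ P Q : 𝐩 ⟶ A, (ffMap (transl P)).comp (ffMap (transl Q)) = ffMap (transl (Q * P)) := fun P Q => by
    rw [← ffMap_comp]
    exact ffMap_congr (transl_comp_transl P Q)
  have h1 : ∀ P : 𝐩 ⟶ A, (ffMap (transl P)).comp (ffMap (transl P⁻¹)) = RingHom.id _ ∧
      (ffMap (transl P⁻¹)).comp (ffMap (transl P)) = RingHom.id _ := fun P => by
    constructor <;> rw [hcomp]
    · rw [ffMap_congr (show transl (P⁻¹ * P) = 𝟙 A by rw [inv_mul_cancel, transl_one]), hid]
    · rw [ffMap_congr (show transl (P * P⁻¹) = 𝟙 A by rw [mul_inv_cancel, transl_one]), hid]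
  let aut : {P : 𝐩 ⟶ A // P ≫ f = 1} → (A.left.functionField ≃ₐ[B.left.functionField] A.left.functionField) := fun P =>
    AlgEquiv.ofAlgHom (hom P) (hom ⟨_, hinv P⟩) (AlgHom.ext fun z => RingHom.congr_fun (h1 P.1).1 z)
      (AlgHom.ext fun z => RingHom.congr_fun (h1 P.1).2 z)
  let H : Subgroup (A.left.functionField ≃ₐ[B.left.functionField] A.left.functionField) :=
    { carrier := Set.range aut
      one_mem' := ⟨⟨1, MonObj.one_comp f⟩, AlgEquiv.ext fun z => by
        show ffMap (transl 1) z = z
        rw [ffMap_congr transl_one, hid, RingHom.id_apply]⟩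
      mul_mem' := by
        rintro _ _ ⟨P, rfl⟩ ⟨Q, rfl⟩
        refine ⟨⟨Q.1 * P.1, by rw [MonObj.mul_comp, Q.2, P.2, _root_.one_mul]⟩, AlgEquiv.ext fun z => ?_⟩
        exact (RingHom.congr_fun (hcomp P.1 Q.1) z).symm
      inv_mem' := by
        rintro _ ⟨P, rfl⟩
        exact ⟨⟨_, hinv P⟩, AlgEquiv.ext fun z => rfl⟩ }
  have hinj : Function.Injective aut := fun P Q h => by
    have h2 : ffMap (transl P.1) = ffMap (transl Q.1) :=
      RingHom.ext fun z => DFunLike.congr_fun h z
    have h3 : transl (Q.1⁻¹ * P.1) = 𝟙 A := eq_id_of_ffMap _ (by rw [← hcomp, h2, (h1 _).1])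
    have h4 := congrArg (fun m => η[A] ≫ m) h3
    simp only [transl, MonObj.comp_mul, Category.comp_id, ← Category.assoc,
      toUnit_unique (η[A] ≫ toUnit A) (𝟙 _), Category.id_comp] at h4
    exact Subtype.ext (inv_mul_eq_one.1 (mul_eq_right.1 h4)).symm
  have hcard : Nat.card H = Nat.card {P : 𝐩 ⟶ A // P ≫ f = 1} :=
    (Nat.card_congr (Equiv.ofInjective aut hinj)).symm
  exact ⟨H, hcard⟩

/-- The rational points of the kernel of a finite surjective flat homomorphism divide its degree. -/
theorem card_ker_dvd_finrank [IsSeparated A.hom] [GrpObj B] (f : A ⟶ B) [IsMonHom f] [IsFinite f.left] [Surjective f.left]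
    [Flat f.left] [LocallyOfFinitePresentation f.left] (y : B.left) :
    Nat.card {P : 𝐩 ⟶ A // P ≫ f = 1} ∣ Scheme.Hom.finrank f.left y := by
  letI := ffExt f
  haveI := finiteDimensional_ff f
  obtain ⟨H, hcard⟩ := exists_subgroup_card_ker f
  rw [finrank_eq f y, ← hcard, ← IntermediateField.finrank_fixedField_eq_card H]
  exact ⟨_, ((mul_comm _ _).trans (Module.finrank_mul_finrank B.left.functionField (IntermediateField.fixedField H) A.left.functionField)).symm⟩

end Groth.Agent.AVDegPoly
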