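import Groth.Agent.AVDegPoly.Poly
import Groth.Agent.AVDegPoly.Translate
import Groth.Agent.AbTors.Torsion
import Groth.Agent.AbTors.Hom
import Groth.Agent.Lib.AVAmple
import Mathlib.LinearAlgebra.Matrix.Polynomial

/-!
The degree polynomial vanishes at the combinations which are not finite.
-/

noncomputable section

set_option linter.style.haveILetI false
set_option linter.unusedSectionVars false
set_option backward.isDefEq.respectTransparency false
set_option backward.isDefEq.respectTransparency.types false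
set_option maxHeartbeats 1000000
set_option autoImplicit false

universe u

open CategoryTheory CategoryTheory.Limits MonoidalCategory CartesianMonoidalCategory MonObj AlgebraicGeometry TopologicalSpace

namespace Groth.Agent.AVDegPoly

open Groth.Agent.H23 Groth.Agent.AbTors

variable {k : Type u} [Field k] [IsAlgClosed k]
variable {A B : Over (Spec (CommRingCat.of k))} [GrpObj A] [IsProper A.hom] [GeometricallyIntegral A.hom]
  [GrpObj B] [IsCommMonObj B] [IsProper B.hom] [GeometricallyIntegral B.hom]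

local notation "𝐩" => 𝟙_ (Over (Spec (CommRingCat.of k)))
local notation "𝐓" => Over.mk (𝟙 (Spec (CommRingCat.of k)))

/-- A homomorphism with finitely many rational points in its kernel is finite. -/
theorem isFinite_of_finite_ker (φ : A ⟶ B) [IsMonHom φ] (h : Set.Finite {P : 𝐩 ⟶ A | P ≫ φ = 1}) :
    IsFinite φ.left := by
  haveI : IsProper (φ.left ≫ B.hom) := by rw [Over.w]; infer_instance
  haveI : IsProper φ.left := IsProper.of_comp φ.left B.hom
  haveI : JacobsonSpace A.left := LocallyOfFiniteType.jacobsonSpace A.hom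
  haveI : LocallyQuasiFinite φ.left := AVAmple.locallyQuasiFinite_of_closed φ.left fun q hq => by
    let Z : Set A.left := φ.left ⁻¹' {q}
    have hZ : IsClosed Z := hq.preimage φ.left.continuous
    have hfin : (Z ∩ closedPoints A.left).Finite := by
      rcases (Z ∩ closedPoints A.left).eq_empty_or_nonempty with h0 | ⟨x₀, hx₀, hx₀c⟩
      · rw [h0]; exact Set.finite_empty
      obtain ⟨P₀, hP₀⟩ : ∃ P₀ : 𝐩 ⟶ A, P₀.left (IsLocalRing.closedPoint k) = x₀ :=
        ⟨Over.homMk ((pointEquivClosedPoint A.hom).symm ⟨x₀, hx₀c⟩).1 ((pointEquivClosedPoint A.hom).symm ⟨x₀, hx₀c⟩).2,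
          congrArg Subtype.val ((pointEquivClosedPoint A.hom).apply_symm_apply ⟨x₀, hx₀c⟩)⟩
      refine (h.image fun P => (P * P₀).left (IsLocalRing.closedPoint k)).subset ?_
      rintro x ⟨hx, hxc⟩
      let P : 𝐩 ⟶ A := Over.homMk ((pointEquivClosedPoint A.hom).symm ⟨x, hxc⟩).1 ((pointEquivClosedPoint A.hom).symm ⟨x, hxc⟩).2
      have hP : P.left (IsLocalRing.closedPoint k) = x :=
        congrArg Subtype.val ((pointEquivClosedPoint A.hom).apply_symm_apply ⟨x, hxc⟩)
      refine ⟨P * P₀⁻¹, ?_, by show ((P * P₀⁻¹) * P₀).left _ = x; rw [inv_mul_cancel_right]; exact hP⟩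
      show (P * P₀⁻¹) ≫ φ = 1
      have he : P ≫ φ = P₀ ≫ φ := AbTors.point_ext (by
        rw [Over.comp_left, Over.comp_left, Scheme.Hom.comp_apply, Scheme.Hom.comp_apply, hP, hP₀]
        exact (Set.mem_singleton_iff.1 hx).trans (Set.mem_singleton_iff.1 hx₀).symm)
      rw [MonObj.mul_comp, GrpObj.inv_comp, he, mul_inv_cancel]
    refine hfin.subset ?_
    intro x hx
    have hcl : closure (Z ∩ closedPoints A.left) = Z := closure_inter_closedPoints hZ
    have hclosed : IsClosed (Z ∩ closedPoints A.left) := by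
      rw [← Set.biUnion_of_singleton (Z ∩ closedPoints A.left)]
      exact hfin.isClosed_biUnion fun y hy => mem_closedPoints_iff.1 hy.2
    rw [hclosed.closure_eq] at hcl
    rw [hcl]
    exact hx
  exact IsFinite.of_isProper_of_locallyQuasiFinite φ.left

/-- A homomorphism which is not finite kills an abelian variety of positive dimension. -/
theorem exists_sub_of_not_finite (φ : A ⟶ B) [IsMonHom φ] (hφ : ¬ IsFinite φ.left) :
    ∃ (N : Over (Spec (CommRingCat.of k))) (_ : GrpObj N) (j : N ⟶ A) (d : ℕ), IsMonHom j ∧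
      IsClosedImmersion j.left ∧ IsProper N.hom ∧ GeometricallyIntegral N.hom ∧ j ≫ φ = 1 ∧
      topologicalKrullDim N.left = d ∧ 0 < d := by
  haveI : IsSeparated B.hom := inferInstance
  obtain ⟨K, _, i, hi, hic, -, hker⟩ := GrpSchLib.exists_kernel φ
  haveI : IsProper K.hom := by rw [← Over.w i]; infer_instance
  obtain ⟨N, _, j, hj, hjc, hN, hN', hjr⟩ := exists_redComponent K
  haveI : IsCommMonObj A := isCommMonObj_of_isProper_of_geometricallyIntegral A
  haveI : IsClosedImmersion (j ≫ i).left := inferInstanceAs (IsClosedImmersion (j.left ≫ i.left))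
  obtain ⟨d, hd⟩ := AbTors.exists_dim N
  refine ⟨N, ‹_›, j ≫ i, d, inferInstance, inferInstance, hN, hN',
    by rw [Category.assoc, show i ≫ φ = 1 from hker.w, MonObj.comp_one], hd, Nat.pos_of_ne_zero ?_⟩
  rintro rfl
  refine hφ (isFinite_of_finite_ker φ ?_)
  -- the connected component of the origin is a point
  haveI : IsIntegral N.left := GeometricallyIntegral.isIntegral_of_subsingleton N.hom
  have hsub : Subsingleton N.left := by
    refine ⟨fun x y => ?_⟩
    have hz : ∀ z : N.left, z = genericPoint N.left := fun z =>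
      VarDim.eq_of_specializes_of_deg_le N.hom (genericPoint_specializes z) (by
        have h := VarDim.topologicalKrullDim_eq_deg_genericPoint N.hom
        rw [hd] at h
        have h' : VarDim.deg N.hom (genericPoint N.left) = 0 := by exact_mod_cast h.symm
        rw [h']; exact Nat.zero_le _) |>.symm
    rw [hz x, hz y]
  have hcc : connectedComponent (η[K].left (IsLocalRing.closedPoint k)) ⊆ {η[K].left (IsLocalRing.closedPoint k)} := by
    intro z hz
    have h0 := mem_connectedComponent (x := η[K].left (IsLocalRing.closedPoint k))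
    rw [← hjr] at hz h0
    obtain ⟨a, rfl⟩ := hz
    obtain ⟨b, hb⟩ := h0
    rw [← hb, Subsingleton.elim a b]
    rfl
  haveI : CompactSpace K.left := QuasiCompact.compactSpace_of_compactSpace K.hom
  haveI : IsLocallyNoetherian K.left := LocallyOfFiniteType.isLocallyNoetherian K.hom
  haveI : IsNoetherian K.left := {}
  have hsingle : ∀ P P' : 𝐩 ⟶ K, irreducibleComponent (P.left (IsLocalRing.closedPoint k)) =
      irreducibleComponent (P'.left (IsLocalRing.closedPoint k)) → P = P' := by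
    intro P P' he
    let t : K ⟶ K := (toUnit K ≫ P⁻¹) * 𝟙 K
    have ht : ∀ y : 𝐩 ⟶ K, y ≫ t = P⁻¹ * y := fun y => by
      rw [MonObj.comp_mul, Category.comp_id, ← Category.assoc, toUnit_unique (y ≫ toUnit K) (𝟙 _), Category.id_comp]
    have hone : η[K].left (IsLocalRing.closedPoint k) ∈ t.left '' irreducibleComponent (P.left (IsLocalRing.closedPoint k)) :=
      ⟨_, mem_irreducibleComponent, by
        rw [← Scheme.Hom.comp_apply, ← Over.comp_left, ht, inv_mul_cancel, MonObj.one_eq_one]⟩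
    have hmem : (P⁻¹ * P').left (IsLocalRing.closedPoint k) ∈
        connectedComponent (η[K].left (IsLocalRing.closedPoint k)) := by
      refine ((isIrreducible_irreducibleComponent.image _ t.left.continuous.continuousOn).isConnected.isPreconnected).subset_connectedComponent
        hone ⟨P'.left (IsLocalRing.closedPoint k), ?_, ?_⟩
      · rw [he]; exact mem_irreducibleComponent
      · rw [← Scheme.Hom.comp_apply, ← Over.comp_left, ht]
    have h1 : P⁻¹ * P' = η[K] := AbTors.point_ext (Set.mem_singleton_iff.1 (hcc hmem))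
    rw [MonObj.one_eq_one, inv_mul_eq_one] at h1
    exact h1
  haveI : Finite (irreducibleComponents K.left) := NoetherianSpace.finite_irreducibleComponents.to_subtype
  haveI : Finite (𝐩 ⟶ K) := Finite.of_injective
    (fun P : 𝐩 ⟶ K => (⟨_, irreducibleComponent_mem_irreducibleComponents (P.left (IsLocalRing.closedPoint k))⟩ :
      irreducibleComponents K.left)) fun P P' h => hsingle P P' (congrArg Subtype.val h)
  refine (Set.finite_range fun P : 𝐩 ⟶ K => P ≫ i).subset fun P hP => ?_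
  exact ⟨hker.lift P (toUnit _) (Eq.trans hP rfl), hker.lift_fst _ _ _⟩

variable {l : ℕ} [Fact l.Prime]

theorem not_injective_tateMap_of_not_finite [IsCommMonObj A] (hl : (l : k) ≠ 0) (φ : A ⟶ B) [IsMonHom φ]
    (hφ : ¬ IsFinite φ.left) :
    ∃ x : AbDual.TateMod A l 𝐓, x ≠ 0 ∧ AbDual.tateMapₗ (l := l) (T := 𝐓) φ x = 0 := by
  obtain ⟨N, _, j, d, hj, hjc, hN, hN', hjφ, hd, hd0⟩ := exists_sub_of_not_finite φ hφ
  haveI : IsCommMonObj N := isCommMonObj_of_isProper_of_geometricallyIntegral N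
  obtain ⟨e⟩ := exists_tateEquiv (l := l) (A := N) (T := 𝐓) (r := 2 * d)
    (fun x => divisible N (Fact.out : l.Prime).one_le x)
    (fun n => by
      rw [pow_mul]
      exact card_torsPts N hd (N := l ^ n) (by rw [Nat.cast_pow]; exact pow_ne_zero _ hl))
  let z := e (Pi.single ⟨0, by omega⟩ 1)
  have hz : z ≠ 0 := fun h => by
    have := e.map_eq_zero_iff.1 h
    simpa using congrFun this ⟨0, by omega⟩
  haveI : Mono j := (Over.forget _).mono_of_mono_map (inferInstanceAs (Mono j.left))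
  refine ⟨AbDual.tateMapₗ (l := l) (T := 𝐓) j z, fun h => hz ?_, ?_⟩
  · refine AbDual.TateMod.ext fun n => Additive.toMul.injective ((cancel_mono j).1 ?_)
    exact (congrArg Additive.toMul (congrArg (fun w : AbDual.TateMod A l 𝐓 => (w : ℕ → Additive (𝐓 ⟶ A)) n) h)).trans
      (MonObj.one_comp j).symm
  · refine AbDual.TateMod.ext fun n => Additive.toMul.injective ?_
    show (_ ≫ j) ≫ φ = 1
    rw [Category.assoc, hjφ, MonObj.comp_one]

theorem tateMap_eq_zero_of_finite [IsCommMonObj A] (φ : A ⟶ B) [IsMonHom φ] [IsFinite φ.left]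
    (x : AbDual.TateMod A l 𝐓) (hx : AbDual.tateMapₗ (l := l) (T := 𝐓) φ x = 0) : x = 0 := by
  have hxk : ∀ n, ((x : ℕ → Additive (𝐓 ⟶ A)) n).toMul ≫ φ = 1 := fun n =>
    congrArg Additive.toMul (congrArg (fun w : AbDual.TateMod B l 𝐓 => (w : ℕ → Additive (𝐓 ⟶ B)) n) hx)
  -- finitely many points are killed
  have hfin : Set.Finite {P : 𝐓 ⟶ A | P ≫ φ = 1} := by
    haveI : JacobsonSpace A.left := LocallyOfFiniteType.jacobsonSpace A.hom
    refine Set.Finite.of_finite_image ((φ.left.finite_preimage_singleton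
      ((1 : 𝐓 ⟶ B).left (IsLocalRing.closedPoint k))).subset ?_) (f := fun P : 𝐓 ⟶ A => P.left (IsLocalRing.closedPoint k))
      fun P _ P' _ h => AbTors.point_ext h
    rintro _ ⟨P, hP, rfl⟩
    show φ.left (P.left _) = _
    rw [← Scheme.Hom.comp_apply, ← Over.comp_left, show P ≫ φ = 1 from hP]
  have hS : (Set.range (x : ℕ → Additive (𝐓 ⟶ A))).Finite :=
    (hfin.image Additive.ofMul).subset (by rintro _ ⟨n, rfl⟩; exact ⟨_, hxk n, rfl⟩)
  haveI := hS.to_subtype
  choose f hf using fun y : Set.range (x : ℕ → Additive (𝐓 ⟶ A)) => y.2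
  haveI := Fintype.ofFinite (Set.range (x : ℕ → Additive (𝐓 ⟶ A)))
  let M := Finset.univ.sup f
  have hkill : ∀ n, (l ^ M) • (x : ℕ → Additive (𝐓 ⟶ A)) n = 0 := fun n => by
    let y : Set.range (x : ℕ → Additive (𝐓 ⟶ A)) := ⟨_, n, rfl⟩
    obtain ⟨j, hj⟩ := Nat.exists_eq_add_of_le (Finset.le_sup (f := f) (Finset.mem_univ y))
    rw [← show (x : ℕ → Additive (𝐓 ⟶ A)) (f y) = (x : ℕ → Additive (𝐓 ⟶ A)) n from hf y,
      show M = f y + j from hj, pow_add, mul_comm, mul_smul, x.torsion, smul_zero]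
  have hiter : ∀ n j, (l ^ j) • (x : ℕ → Additive (𝐓 ⟶ A)) (n + j) = (x : ℕ → Additive (𝐓 ⟶ A)) n := by
    intro n j
    induction j with
    | zero => rw [pow_zero, one_smul]; rfl
    | succ j ih => rw [pow_succ, mul_smul, show n + (j + 1) = n + j + 1 from rfl, x.compat, ih]
  exact AbDual.TateMod.ext fun n => (hiter n M).symm.trans (hkill _)

/-- A line of linear maps through an injective one is singular at finitely many parameters. -/
theorem exists_singular_finset {R V W : Type*} [CommRing R] [IsDomain R] [AddCommGroup V] [Module R V] [AddCommGroup W]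
    [Module R W] {n : ℕ} (eV : (Fin n → R) ≃ₗ[R] V) (eW : (Fin n → R) ≃ₗ[R] W) (F H : V →ₗ[R] W)
    (hH : ∀ x, H x = 0 → x = 0) : ∃ S : Finset R, ∀ t : R, (∃ x, x ≠ 0 ∧ (F + t • H) x = 0) → t ∈ S := by
  classical
  let M : (V →ₗ[R] W) → Matrix (Fin n) (Fin n) R := fun T =>
    LinearMap.toMatrix' (eW.symm.toLinearMap.comp (T.comp eV.toLinearMap))
  have hM : ∀ T v, (M T).mulVec v = eW.symm (T (eV v)) := fun T v => by
    rw [← Matrix.toLin'_apply, Matrix.toLin'_toMatrix']
    rfl
  have hdet : (M H).det ≠ 0 := fun h0 => by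
    obtain ⟨v, hv, hv0⟩ := Matrix.exists_mulVec_eq_zero_iff.2 h0
    rw [hM, LinearEquiv.map_eq_zero_iff] at hv0
    exact hv (eV.map_eq_zero_iff.1 (hH _ hv0))
  let P : Polynomial R := Matrix.det ((Polynomial.X : Polynomial R) • (M H).map Polynomial.C + (M F).map Polynomial.C)
  have hP : P ≠ 0 := fun h0 => hdet (by
    rw [← Polynomial.coeff_det_X_add_C_card _ (M F)]
    show P.coeff _ = 0
    rw [h0, Polynomial.coeff_zero])
  refine ⟨P.roots.toFinset, fun t ⟨x, hx, hx0⟩ => ?_⟩
  rw [Multiset.mem_toFinset, Polynomial.mem_roots hP, Polynomial.IsRoot, ← Polynomial.coe_evalRingHom, RingHom.map_det]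
  refine Matrix.exists_mulVec_eq_zero_iff.1 ⟨eV.symm x, fun h0 => hx (eV.symm.map_eq_zero_iff.1 h0), ?_⟩
  rw [show (Polynomial.evalRingHom t).mapMatrix ((Polynomial.X : Polynomial R) • (M H).map Polynomial.C +
      (M F).map Polynomial.C) = t • M H + M F by ext i j; simp only [RingHom.mapMatrix_apply, Matrix.map_apply, Matrix.add_apply, Matrix.smul_apply, smul_eq_mul, map_add, Polynomial.coe_evalRingHom, Polynomial.eval_mul, Polynomial.eval_X, Polynomial.eval_C],
    Matrix.add_mulVec, Matrix.smul_mulVec, hM, hM, eV.apply_symm_apply, ← map_smul, ← map_add]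
  rw [LinearMap.add_apply, LinearMap.smul_apply] at hx0
  rw [add_comm, hx0, map_zero]

theorem tateMap_mul_zpow [IsCommMonObj A] (f h : A ⟶ B) (t : ℤ) [IsMonHom f] [IsMonHom h] [IsMonHom (f * h ^ t)] :
    AbDual.tateMapₗ (l := l) (T := 𝐓) (f * h ^ t) =
      AbDual.tateMapₗ (l := l) (T := 𝐓) f + (t : ℤ_[l]) • AbDual.tateMapₗ (l := l) (T := 𝐓) h := by
  refine LinearMap.ext fun z => AbDual.TateMod.ext fun n => ?_
  rw [LinearMap.add_apply, LinearMap.smul_apply, Int.cast_smul_eq_zsmul]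
  refine Additive.toMul.injective ?_
  show ((z : ℕ → Additive (𝐓 ⟶ A)) n).toMul ≫ (f * h ^ t) = _
  rw [MonObj.comp_mul, GrpObj.comp_zpow]
  rfl

theorem exists_finite_add_smul [IsCommMonObj A] {g : ℕ} (hgA : topologicalKrullDim A.left = g)
    (hgB : topologicalKrullDim B.left = g) (hl : (l : k) ≠ 0) (f h : A ⟶ B) [IsMonHom f] [IsMonHom h]
    [IsFinite h.left] : ∃ S : Finset ℤ, ∀ t : ℤ, t ∉ S → IsFinite (f * h ^ t).left := by
  classical
  obtain ⟨eA⟩ := exists_tateEquiv (l := l) (A := A) (T := 𝐓) (r := 2 * g)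
    (fun x => divisible A (Fact.out : l.Prime).one_le x)
    (fun n => by rw [pow_mul]; exact card_torsPts A hgA (N := l ^ n) (by rw [Nat.cast_pow]; exact pow_ne_zero _ hl))
  obtain ⟨eB⟩ := exists_tateEquiv (l := l) (A := B) (T := 𝐓) (r := 2 * g)
    (fun x => divisible B (Fact.out : l.Prime).one_le x)
    (fun n => by rw [pow_mul]; exact card_torsPts B hgB (N := l ^ n) (by rw [Nat.cast_pow]; exact pow_ne_zero _ hl))
  obtain ⟨S, hS⟩ := exists_singular_finset eA eB (AbDual.tateMapₗ (l := l) (T := 𝐓) f)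
    (AbDual.tateMapₗ (l := l) (T := 𝐓) h) fun x hx => tateMap_eq_zero_of_finite h x hx
  refine ⟨S.preimage (fun t : ℤ => (t : ℤ_[l])) (Int.cast_injective.injOn), fun t ht => ?_⟩
  by_contra hnf
  haveI : IsMonHom (f * h ^ t) :=
    (homs A B).mul_mem (show f ∈ homs A B from inferInstanceAs (IsMonHom f))
      ((homs A B).zpow_mem (show h ∈ homs A B from inferInstanceAs (IsMonHom h)) t)
  obtain ⟨x, hx, hx0⟩ := not_injective_tateMap_of_not_finite hl (f * h ^ t) hnf
  rw [tateMap_mul_zpow] at hx0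
  exact ht (Finset.mem_preimage.2 (hS _ ⟨x, hx, hx0⟩))

/-- The degree is a homogeneous polynomial, vanishing at the combinations which are not finite. -/
theorem exists_degree_poly_vanishing [IsCommMonObj A] {g : ℕ} (hgA : topologicalKrullDim A.left = g)
    (hgB : topologicalKrullDim B.left = g) {m : ℕ} (e : Fin m → (A ⟶ B)) [∀ i, IsMonHom (e i)] :
    ∃ P : MvPolynomial (Fin m) ℚ, P.IsHomogeneous (2 * g) ∧ ∀ a : Fin m → ℤ,
      (IsFinite (∏ i, e i ^ a i).left →
        ∀ b : B.left, (Scheme.Hom.finrank (∏ i, e i ^ a i).left b : ℚ) = MvPolynomial.eval (fun i => (a i : ℚ)) P) ∧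
      (¬ IsFinite (∏ i, e i ^ a i).left → MvPolynomial.eval (fun i => (a i : ℚ)) P = 0) := by
  classical
  have hhom : ∀ a : Fin m → ℤ, IsMonHom (∏ i, e i ^ a i) := fun a =>
    (homs A B).prod_mem fun i _ => (homs A B).zpow_mem (show e i ∈ homs A B from inferInstanceAs (IsMonHom (e i))) _
  by_cases hex : ∃ b : Fin m → ℤ, IsFinite (∏ i, e i ^ b i).left
  swap
  · exact ⟨0, MvPolynomial.isHomogeneous_zero _ _ _, fun a =>
      ⟨fun h => absurd ⟨a, h⟩ hex, fun _ => map_zero _⟩⟩
  obtain ⟨b, hb⟩ := hex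
  obtain ⟨P, hP, hPa⟩ := exists_degree_poly hgA hgB e
  refine ⟨P, hP, fun a => ⟨fun h y => hPa a (hhom a) h y, fun hna => ?_⟩⟩
  obtain ⟨den, hden, P', hP'⟩ : ∃ den : ℕ, 0 < den ∧ ∃ P' : MvPolynomial (Fin m) ℤ,
      MvPolynomial.map (Int.castRingHom ℚ) P' = (den : MvPolynomial (Fin m) ℚ) * P := by
    clear hP hPa
    induction P using MvPolynomial.induction_on' with
    | monomial α c =>
      refine ⟨c.den, c.den_pos, MvPolynomial.monomial α c.num, ?_⟩
      rw [MvPolynomial.map_monomial, ← map_natCast (MvPolynomial.C (σ := Fin m) (R := ℚ)), MvPolynomial.C_mul_monomial,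
        mul_comm, Rat.mul_den_eq_num]
      rfl
    | add P Q hP hQ =>
      obtain ⟨d₁, h₁, P₁, e₁⟩ := hP
      obtain ⟨d₂, h₂, P₂, e₂⟩ := hQ
      refine ⟨d₁ * d₂, Nat.mul_pos h₁ h₂, (d₂ : MvPolynomial (Fin m) ℤ) * P₁ + (d₁ : MvPolynomial (Fin m) ℤ) * P₂, ?_⟩
      rw [map_add, map_mul, map_mul, e₁, e₂, map_natCast, map_natCast]
      push_cast
      ring
  have hev : ∀ c : Fin m → ℤ, ((MvPolynomial.eval c P' : ℤ) : ℚ) = den * MvPolynomial.eval (fun i => (c i : ℚ)) P :=
    fun c => by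
      rw [← map_natCast (MvPolynomial.eval (fun i => (c i : ℚ))) den, ← map_mul, ← hP', MvPolynomial.eval_map]
      exact (MvPolynomial.eval₂_comp (Int.castRingHom ℚ) c P')
  -- a prime different from the characteristic
  obtain ⟨l, hlp, hl⟩ : ∃ l : ℕ, l.Prime ∧ (l : k) ≠ 0 := by
    by_cases h2 : (2 : k) = 0
    · refine ⟨3, Nat.prime_three, fun h3 => one_ne_zero (α := k) ?_⟩
      have : ((3 : ℕ) : k) - 2 = 1 := by norm_num
      rw [← this, h3, h2, sub_zero]
    · exact ⟨2, Nat.prime_two, by exact_mod_cast h2⟩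
  haveI : Fact l.Prime := ⟨hlp⟩
  haveI := hhom a
  haveI := hhom b
  haveI := hb
  obtain ⟨S, hS⟩ := exists_finite_add_smul (l := l) hgA hgB hl (∏ i, e i ^ a i) (∏ i, e i ^ b i)
  obtain ⟨N, _, j, d, hj, hjc, hN, hN', hjφ, hd, hd0⟩ := exists_sub_of_not_finite (∏ i, e i ^ a i) hna
  haveI : IsCommMonObj N := isCommMonObj_of_isProper_of_geometricallyIntegral N
  suffices hz : MvPolynomial.eval a P' = 0 by
    have h := hev a
    rw [hz, Int.cast_zero, eq_comm, mul_eq_zero] at h
    exact h.resolve_left (by exact_mod_cast hden.ne')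
  -- high powers of `l` divide the value
  obtain ⟨n₀, hn₀⟩ : ∃ n₀, ∀ n, n₀ ≤ n → ((l ^ n : ℕ) : ℤ) ∉ S := by
    refine ⟨(S.image Int.natAbs).sup id + 1, fun n hn hmem => ?_⟩
    have h1 : l ^ n ≤ (S.image Int.natAbs).sup id :=
      Finset.le_sup (f := id) (Finset.mem_image.2 ⟨_, hmem, Int.natAbs_natCast _⟩)
    have h2 : n < l ^ n := Nat.lt_pow_self hlp.one_lt
    omega
  by_contra hz
  obtain ⟨n₁, hn₁⟩ := pow_unbounded_of_one_lt (MvPolynomial.eval a P').natAbs hlp.one_lt
  let n := max n₀ n₁ + 1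
  let c : Fin m → ℤ := a + ((l ^ n : ℕ) : ℤ) • b
  have hc : ∏ i, e i ^ c i = (∏ i, e i ^ a i) * (∏ i, e i ^ b i) ^ ((l ^ n : ℕ) : ℤ) := by
    rw [← Finset.prod_zpow, ← Finset.prod_mul_distrib]
    exact Finset.prod_congr rfl fun i _ => by
      rw [← zpow_mul, ← zpow_add, mul_comm]; rfl
  have hfin : IsFinite (∏ i, e i ^ c i).left := hc ▸ hS _ (hn₀ n (by omega))
  haveI := hhom c
  obtain ⟨_, _, _⟩ := hom_props hgA hgB (∏ i, e i ^ c i)
  haveI : IsIntegral A.left := GeometricallyIntegral.isIntegral_of_subsingleton A.hom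
  haveI : IsIntegral B.left := GeometricallyIntegral.isIntegral_of_subsingleton B.hom
  -- a point of exact order `l ^ n` in the kernel
  obtain ⟨Q, hQ, hQ'⟩ : ∃ Q : 𝐩 ⟶ N, Q ^ (l ^ n) = 1 ∧ Q ^ (l ^ (max n₀ n₁)) ≠ 1 := by
    by_contra hcon
    push Not at hcon
    have hne : ∀ i, ((l ^ i : ℕ) : k) ≠ 0 := fun i => by rw [Nat.cast_pow]; exact pow_ne_zero _ hl
    haveI : Finite {Q : 𝐩 ⟶ N // Q ^ (l ^ (max n₀ n₁)) = 1} := (finite_pow_eq_one N (hne (max n₀ n₁))).to_subtype
    have hle : Nat.card {Q : 𝐩 ⟶ N // Q ^ (l ^ n) = 1} ≤ Nat.card {Q : 𝐩 ⟶ N // Q ^ (l ^ (max n₀ n₁)) = 1} :=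
      Nat.card_le_card_of_injective (fun Q => ⟨Q.1, hcon Q.1 Q.2⟩) fun Q Q' h => Subtype.ext (congrArg (fun z => z.1) h)
    have e1 : Nat.card {Q : 𝐩 ⟶ N // Q ^ (l ^ n) = 1} = _ := card_torsPts N hd (hne n)
    have e2 : Nat.card {Q : 𝐩 ⟶ N // Q ^ (l ^ (max n₀ n₁)) = 1} = _ := card_torsPts N hd (hne _)
    rw [e1, e2] at hle
    exact absurd hle (not_le.2 (Nat.pow_lt_pow_left (Nat.pow_lt_pow_right hlp.one_lt (Nat.lt_succ_self _)) (by omega)))
  haveI : Mono j := (Over.forget _).mono_of_mono_map (inferInstanceAs (Mono j.left))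
  let G : Subgroup (𝐩 ⟶ A) :=
    { carrier := {P | P ≫ (∏ i, e i ^ c i) = 1}
      one_mem' := MonObj.one_comp _
      mul_mem' := fun {P P'} hP hP' => by
        show (P * P') ≫ _ = 1
        rw [MonObj.mul_comp, hP, hP', _root_.one_mul]
      inv_mem' := fun {P} hP => by
        show P⁻¹ ≫ _ = 1
        rw [GrpObj.inv_comp, hP, inv_one] }
  haveI : IsCommMonObj A := isCommMonObj_of_isProper_of_geometricallyIntegral A
  have hQG : Q ≫ j ∈ G := by
    show (Q ≫ j) ≫ _ = 1
    have h1 : (Q ≫ j) ^ ((l ^ n : ℕ) : ℤ) = 1 := by rw [zpow_natCast, ← MonObj.pow_comp, hQ, MonObj.one_comp]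
    rw [hc, MonObj.comp_mul, Category.assoc, hjφ, MonObj.comp_one, _root_.one_mul, GrpObj.comp_zpow,
      ← GrpObj.zpow_comp, h1, MonObj.one_comp]
  have hord : orderOf (⟨Q ≫ j, hQG⟩ : G) = l ^ n := by
    refine orderOf_eq_prime_pow (fun h => hQ' ((cancel_mono j).1 ?_)) ?_
    · rw [MonObj.pow_comp, MonObj.one_comp]
      exact congrArg Subtype.val h
    · exact Subtype.ext (show (Q ≫ j) ^ (l ^ n) = 1 by rw [← MonObj.pow_comp, hQ, MonObj.one_comp])
  obtain ⟨y⟩ : Nonempty B.left := inferInstance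
  have hdvd : l ^ n ∣ Scheme.Hom.finrank (∏ i, e i ^ c i).left y :=
    (hord ▸ orderOf_dvd_natCard _).trans (card_ker_dvd_finrank (∏ i, e i ^ c i) y)
  have hval : MvPolynomial.eval c P' = (den : ℤ) * (Scheme.Hom.finrank (∏ i, e i ^ c i).left y : ℤ) := by
    have h := hev c
    rw [← hPa c (hhom c) hfin y] at h
    exact_mod_cast h
  have hcong : ((l ^ n : ℕ) : ℤ) ∣ MvPolynomial.eval c P' - MvPolynomial.eval a P' := by
    rw [← ZMod.intCast_eq_intCast_iff_dvd_sub]
    have h1 : ∀ v : Fin m → ℤ, ((MvPolynomial.eval v P' : ℤ) : ZMod (l ^ n)) =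
        MvPolynomial.eval₂ (Int.castRingHom _) (fun i => ((v i : ℤ) : ZMod (l ^ n))) P' := fun v =>
      (MvPolynomial.eval₂_comp (Int.castRingHom (ZMod (l ^ n))) v P')
    rw [h1, h1]
    refine congrArg (fun v => MvPolynomial.eval₂ _ v P') (funext fun i => ?_)
    simp only [c, Pi.add_apply, Pi.smul_apply, smul_eq_mul, Int.cast_add, Int.cast_mul, Int.cast_natCast, ZMod.natCast_self, zero_mul, add_zero]
  have h2 : ((l ^ n : ℕ) : ℤ) ∣ MvPolynomial.eval a P' := by
    have h3 : ((l ^ n : ℕ) : ℤ) ∣ MvPolynomial.eval c P' := hval ▸ (Int.natCast_dvd_natCast.2 hdvd).mul_left _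
    have := dvd_sub h3 hcong
    rwa [sub_sub_cancel] at this
  have h3 := Nat.le_of_dvd (Int.natAbs_pos.2 hz) (Int.natCast_dvd.1 h2)
  have h4 : l ^ n₁ ≤ l ^ n := Nat.pow_le_pow_right hlp.pos (by omega)
  omega

end Groth.Agent.AVDegPoly
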