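import Groth.Agent.AVDegPoly.Mult
import Groth.Agent.AVDegPoly.Compare
import Groth.Agent.S12010
import Mathlib.LinearAlgebra.Charpoly.ToMatrix
import Mathlib.LinearAlgebra.Matrix.Charpoly.Basic
import Mathlib.LinearAlgebra.Matrix.Determinant.Misc

/-!
The degree polynomial of an endomorphism is its characteristic polynomial on the Tate module, once the
`l`-part of each degree is the absolute value of the determinant.
-/

noncomputable section

set_option linter.style.haveILetI false
set_option linter.unusedSectionVars false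
set_option backward.isDefEq.respectTransparency false
set_option backward.isDefEq.respectTransparency.types false
set_option maxHeartbeats 1000000
set_option synthInstance.maxHeartbeats 400000
set_option autoImplicit false

universe u

open CategoryTheory CategoryTheory.Limits MonoidalCategory CartesianMonoidalCategory MonObj AlgebraicGeometry TopologicalSpace
open scoped Polynomial

namespace Groth.Agent.AVDegPoly

theorem prod_eval_swap {K : Type*} [Field K] [IsAlgClosed K] {F q : K[X]} (hF : F.Monic) (hq : q.Monic) :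
    (q.roots.map fun t => F.eval t).prod =
      (-1) ^ (F.natDegree * q.natDegree) * (F.roots.map fun a => q.eval a).prod := by
  have hFr := (IsAlgClosed.splits F).eq_prod_roots_of_monic hF
  have hqr := (IsAlgClosed.splits q).eq_prod_roots_of_monic hq
  have h1 : ∀ t, F.eval t = (F.roots.map fun a => t - a).prod := fun t => by
    conv_lhs => rw [hFr]
    rw [Polynomial.eval_multiset_prod, Multiset.map_map]
    simp
  have h2 : ∀ a, (q.roots.map fun t => t - a).prod = (-1) ^ q.natDegree * q.eval a := fun a => by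
    conv_rhs => rw [hqr]
    rw [Polynomial.eval_multiset_prod, Multiset.map_map, Polynomial.natDegree_multiset_prod_of_monic _ (by
      intro p hp; obtain ⟨r, -, rfl⟩ := Multiset.mem_map.1 hp; exact Polynomial.monic_X_sub_C r), Multiset.map_map]
    simp only [Function.comp_def, Polynomial.natDegree_X_sub_C, Polynomial.eval_sub, Polynomial.eval_X, Polynomial.eval_C,
      Multiset.map_const', Multiset.sum_replicate, smul_eq_mul]
    rw [← Multiset.card_map (fun t => t - a) q.roots]
    induction q.roots using Multiset.induction_on with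
    | empty => simp
    | cons r s ih => simp [ih, pow_succ]; ring
  rw [Multiset.map_congr rfl fun t _ => h1 t, Multiset.prod_map_prod_map, Multiset.map_congr rfl fun a _ => h2 a,
    Multiset.prod_map_mul, Multiset.map_const', Multiset.prod_replicate, ← (IsAlgClosed.splits F).natDegree_eq_card_roots,
    ← pow_mul, mul_comm q.natDegree]

variable {k : Type u} [Field k] [IsAlgClosed k] {A : Over (Spec (CommRingCat.of k))} [GrpObj A] [IsCommMonObj A]
  [IsProper A.hom] [GeometricallyIntegral A.hom]

/-- The endomorphism ring to morphisms, additively. -/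
def toHomAdd : EndAV.End A →+ Additive (A ⟶ A) :=
  AddMonoidHom.mk' (fun φ => Additive.ofMul φ.toHom) fun _ _ => rfl

theorem toHom_sum_zsmul {κ : Type*} [Fintype κ] (c : κ → ℤ) (x : κ → EndAV.End A) :
    (∑ i, c i • x i).toHom = ∏ i, (x i).toHom ^ c i := by
  have h := map_sum (toHomAdd (A := A)) (fun i => c i • x i) Finset.univ
  simp only [map_zsmul] at h
  exact congrArg Additive.toMul h

/-- Values of the degree at polynomials in an endomorphism. -/
theorem exists_isDeg_aeval {g : ℕ} (hg : topologicalKrullDim A.left = g) (α : EndAV.End A) (P : ℤ[X])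
    (hP : ∀ n : ℤ, IsDeg (α - (n : EndAV.End A)).toHom (P.eval n : ℤ)) {K : Type*} [Field K] [CharZero K] [IsAlgClosed K]
    (h : ℤ[X]) (hh : h.Monic) :
    ∃ v : ℚ, IsDeg (Polynomial.aeval α h).toHom v ∧
      (v : K) = ((h.map (Int.castRingHom K)).roots.map fun t => (P.map (Int.castRingHom K)).eval t).prod := by
  classical
  let r := (h.map (Int.castRingHom K)).roots
  let N := r.toList.length
  have hN : h.natDegree = N := by
    rw [show N = r.card from Multiset.length_toList r, ← (IsAlgClosed.splits _).natDegree_eq_card_roots, hh.natDegree_map]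
  obtain ⟨G, -, hG⟩ := exists_degree_poly_vanishing hg hg (fun i : Fin (N + 1) => (α ^ (i : ℕ)).toHom)
  have hdeg : ∀ q : ℤ[X], q.natDegree ≤ N →
      IsDeg (Polynomial.aeval α q).toHom (MvPolynomial.eval (fun i : Fin (N + 1) => ((q.coeff i : ℤ) : ℚ)) G) := fun q hq => by
    have : (Polynomial.aeval α q).toHom = ∏ i : Fin (N + 1), (α ^ (i : ℕ)).toHom ^ q.coeff i := by
      rw [Polynomial.aeval_eq_sum_range' (Nat.lt_succ_of_le hq), Finset.sum_range]
      exact toHom_sum_zsmul (fun i : Fin (N + 1) => q.coeff i) fun i => α ^ (i : ℕ)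
    rw [this]
    exact hG _
  refine ⟨_, hdeg h hN.le, ?_⟩
  -- split monic polynomials
  have hsplit : ∀ t : Fin N → ℤ,
      MvPolynomial.eval (fun i : Fin (N + 1) => (((∏ j, (Polynomial.X - Polynomial.C (t j))).coeff i : ℤ) : ℚ)) G =
        ((∏ j, P.eval (t j) : ℤ) : ℚ) := by
    intro t
    haveI : Nonempty A.left := ⟨η[A].left (IsLocalRing.closedPoint k)⟩
    refine (hdeg _ ?_).unique ?_
    · refine (Polynomial.natDegree_prod_le _ _).trans ((Finset.sum_le_sum fun j _ => (Polynomial.natDegree_X_sub_C (t j)).le).trans ?_)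
      simp
    suffices ∀ (M : ℕ) (s : Fin M → ℤ),
        IsDeg (Polynomial.aeval α (∏ j, (Polynomial.X - Polynomial.C (s j)))).toHom ((∏ j, P.eval (s j) : ℤ) : ℚ) from this N t
    intro M
    induction M with
    | zero =>
      intro s
      rw [Fin.prod_univ_zero, Fin.prod_univ_zero, map_one, EndAV.End.toHom_one]
      exact_mod_cast isDeg_id A
    | succ M ih =>
      intro s
      rw [Fin.prod_univ_succ, Fin.prod_univ_succ, map_mul, EndAV.End.toHom_mul, Int.cast_mul, mul_comm]
      refine IsDeg.comp hg hg hg (ih fun j => s j.succ) ?_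
      rw [map_sub, Polynomial.aeval_X, Polynomial.aeval_C, eq_intCast]
      exact hP _
  -- the identity holds at the roots
  let c : Fin (N + 1) → MvPolynomial (Fin N) K :=
    fun i => (∏ j, (Polynomial.X - Polynomial.C (MvPolynomial.X j : MvPolynomial (Fin N) K))).coeff i
  let L : MvPolynomial (Fin N) K := MvPolynomial.eval₂ ((algebraMap K _).comp (algebraMap ℚ K)) c G
  let R : MvPolynomial (Fin N) K := ∏ j, P.eval₂ (Int.castRingHom _) (MvPolynomial.X j)
  have evc : ∀ (x : Fin N → K) (i : Fin (N + 1)),
      MvPolynomial.eval x (c i) = (∏ j, (Polynomial.X - Polynomial.C (x j))).coeff i := fun x i => by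
    rw [← Polynomial.coeff_map, Polynomial.map_prod]
    refine congrArg (fun p => Polynomial.coeff p _) (Finset.prod_congr rfl fun j _ => ?_)
    rw [Polynomial.map_sub, Polynomial.map_X, Polynomial.map_C, MvPolynomial.eval_X]
  have evL : ∀ x, MvPolynomial.eval x L =
      MvPolynomial.eval₂ (algebraMap ℚ K) (fun i : Fin (N + 1) => (∏ j, (Polynomial.X - Polynomial.C (x j))).coeff i) G := fun x => by
    rw [MvPolynomial.eval₂_comp_left (MvPolynomial.eval x)]
    refine MvPolynomial.eval₂Hom_congr (RingHom.ext fun q => by simp) (funext fun i => evc x i) rfl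
  have evR : ∀ x, MvPolynomial.eval x R = ∏ j, (P.map (Int.castRingHom K)).eval (x j) := fun x => by
    rw [map_prod]
    refine Finset.prod_congr rfl fun j _ => ?_
    rw [Polynomial.hom_eval₂, Polynomial.eval_map, MvPolynomial.eval_X]
    exact congrArg (fun φ => Polynomial.eval₂ φ (x j) P) (RingHom.ext_int _ _)
  have hLR : L = R := MvPolynomial.funext_set (fun _ => Set.range ((↑) : ℤ → K))
    (fun _ => Set.infinite_range_of_injective Int.cast_injective) fun x hx => by
      choose n hn using fun i => hx i (Set.mem_univ i)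
      obtain rfl : x = fun i => (n i : K) := funext fun i => (hn i).symm
      rw [evL, evR]
      have h0 := congrArg (algebraMap ℚ K) (hsplit n)
      rw [map_intCast, Int.cast_prod, MvPolynomial.eval, MvPolynomial.coe_eval₂Hom, MvPolynomial.eval₂_comp_left (algebraMap ℚ K)] at h0
      refine Eq.trans ?_ (h0.trans (Finset.prod_congr rfl fun j _ => ?_))
      · refine MvPolynomial.eval₂Hom_congr (by ext; simp) (funext fun i => ?_) rfl
        simp only [Function.comp_apply, map_intCast]
        rw [← eq_intCast (Int.castRingHom K), ← Polynomial.coeff_map, Polynomial.map_prod]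
        refine congrArg (fun p => Polynomial.coeff p _) (Finset.prod_congr rfl fun j _ => ?_)
        simp
      · rw [Polynomial.eval_map, ← eq_intCast (Int.castRingHom K), ← Polynomial.eval₂_at_apply]
        simp
  let x : Fin N → K := fun j => r.toList.get j
  have hroots : ∀ f : K → K, ∏ j, f (x j) = (r.map f).prod := fun f => by
    conv_rhs => rw [← Multiset.coe_toList r, Multiset.map_coe, Multiset.prod_coe]
    rw [← Fin.prod_univ_fun_getElem]
    rfl
  have hpoly : (∏ j, (Polynomial.X - Polynomial.C (x j))) = h.map (Int.castRingHom K) := by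
    conv_rhs => rw [(IsAlgClosed.splits (h.map (Int.castRingHom K))).eq_prod_roots_of_monic (hh.map _),
      ← Multiset.coe_toList (h.map (Int.castRingHom K)).roots, Multiset.map_coe, Multiset.prod_coe]
    rw [← Fin.prod_univ_fun_getElem]
    rfl
  have e := congrArg (MvPolynomial.eval x) hLR
  rw [evL, evR, hroots fun t => (P.map (Int.castRingHom K)).eval t] at e
  refine Eq.trans ?_ e
  rw [hpoly, ← eq_ratCast (algebraMap ℚ K), MvPolynomial.eval, MvPolynomial.coe_eval₂Hom, MvPolynomial.eval₂_comp_left (algebraMap ℚ K)]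
  refine MvPolynomial.eval₂Hom_congr (by ext; simp) (funext fun i => ?_) rfl
  simp [Polynomial.coeff_map]

theorem isDeg_sub_intCast {α : A ⟶ A} [IsMonHom α] {P : ℤ[X]}
    (hP : ∀ n : ℤ, (IsFinite (α * 𝟙 A ^ (-n)).left →
        ∀ a : A.left, (Scheme.Hom.finrank (α * 𝟙 A ^ (-n)).left a : ℤ) = P.eval n) ∧
      (¬ IsFinite (α * 𝟙 A ^ (-n)).left → P.eval n = 0)) (n : ℤ) :
    IsDeg (EndAV.End.of α - (n : EndAV.End A)).toHom (P.eval n : ℤ) := by
  rw [sub_eq_add_neg, ← Int.cast_neg, EndAV.End.toHom_add, EndAV.End.toHom_intCast, EndAV.End.toHom_of]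
  exact ⟨fun hf b => by rw [← (hP n).1 hf b]; norm_cast, fun hf => by rw [(hP n).2 hf]; norm_cast⟩

/-- The polynomial giving the degrees of `α - n` is monic of degree `2g`. -/
theorem monic_of_degree {g : ℕ} (hg : topologicalKrullDim A.left = g) (α : A ⟶ A) [IsMonHom α] {P : ℤ[X]}
    (hP : ∀ n : ℤ, IsDeg (EndAV.End.of α - (n : EndAV.End A)).toHom (P.eval n : ℤ)) :
    P.Monic ∧ P.natDegree = 2 * g := by
  obtain ⟨Q, hQm, hQd, hQ⟩ := S12010.result k A g hg α
  haveI : Nonempty A.left := ⟨η[A].left (IsLocalRing.closedPoint k)⟩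
  have heq : P.map (Int.castRingHom ℚ) = Q.comp (-Polynomial.X) := by
    refine Polynomial.eq_of_infinite_eval_eq _ _ ((Set.infinite_range_of_injective (Int.cast_injective (α := ℚ))).mono ?_)
    rintro _ ⟨n, rfl⟩
    show Polynomial.eval _ _ = Polynomial.eval _ _
    rw [Polynomial.eval_comp, Polynomial.eval_neg, Polynomial.eval_X, Polynomial.eval_map, ← Int.cast_neg]
    have h1 := hP n
    rw [sub_eq_add_neg, ← Int.cast_neg, EndAV.End.toHom_add, EndAV.End.toHom_intCast, EndAV.End.toHom_of] at h1
    rw [← IsDeg.unique h1 ⟨(hQ (-n)).1, fun h => (hQ (-n)).2 h⟩, ← eq_intCast (Int.castRingHom ℚ) n,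
      Polynomial.eval₂_at_apply]
    rfl
  have hd : (Q.comp (-Polynomial.X)).natDegree = 2 * g := by
    rw [Polynomial.natDegree_comp, hQd, Polynomial.natDegree_neg, Polynomial.natDegree_X, Nat.mul_one]
  have hd' : P.natDegree = 2 * g := by
    rw [← Polynomial.natDegree_map_eq_of_injective (Int.castRingHom ℚ).injective_int P, heq, hd]
  refine ⟨?_, hd'⟩
  refine Polynomial.monic_of_injective (Int.castRingHom ℚ).injective_int ?_
  rw [heq, Polynomial.Monic, Polynomial.leadingCoeff_comp (by simp), hQm.leadingCoeff, _root_.one_mul,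
    Polynomial.leadingCoeff_neg, Polynomial.leadingCoeff_X, hQd, Even.neg_one_pow (even_two_mul g)]

/-- The degree polynomial is the characteristic polynomial. -/
theorem charpoly_eq_of_norm {g : ℕ} (hg : topologicalKrullDim A.left = g) {l : ℕ} [Fact l.Prime]
    (T : Over (Spec (CommRingCat.of k)))
    [Module.Free ℤ_[l] (AbDual.TateMod A l T)] [Module.Finite ℤ_[l] (AbDual.TateMod A l T)]
    (hnorm : ∀ (f : A ⟶ A) [IsMonHom f] (v : ℚ), IsDeg f v →
      ‖(v : ℚ_[l])‖ = ‖((LinearMap.det (AbDual.tateMapₗ (l := l) (T := T) f) : ℤ_[l]) : ℚ_[l])‖)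
    (α : A ⟶ A) [IsMonHom α] {P : ℤ[X]}
    (hP : ∀ n : ℤ, IsDeg (EndAV.End.of α - (n : EndAV.End A)).toHom (P.eval n : ℤ)) :
    (AbDual.tateMapₗ (l := l) (T := T) α).charpoly = P.map (Int.castRingHom ℤ_[l]) := by
  classical
  obtain ⟨hPm, hPd⟩ := monic_of_degree hg α hP
  let F := AbDual.tateMapₗ (l := l) (T := T) α
  let b := Module.Free.chooseBasis ℤ_[l] (AbDual.TateMod A l T)
  let M := LinearMap.toMatrix b b F
  have hM : M.charpoly = F.charpoly := LinearMap.charpoly_toMatrix F b
  refine (eq_of_norm_resultant P hPm _ (F.charpoly_monic) fun q hq => ?_).symm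
  obtain ⟨v, hv, hvK⟩ := exists_isDeg_aeval hg (EndAV.End.of α) P hP (K := PadicAlgCl l) q hq
  have hn := hnorm _ v hv
  have hT : AbDual.tateMapₗ (l := l) (T := T) (Polynomial.aeval (EndAV.End.of α) q).toHom =
      Polynomial.aeval F (q.map (Int.castRingHom ℤ_[l])) := by
    show EndAV.End.tateRep (A := A) l T (Polynomial.aeval (EndAV.End.of α) q) = _
    rw [Polynomial.aeval_def, Polynomial.hom_eval₂, Polynomial.aeval_def, Polynomial.eval₂_map]
    exact congrArg (fun φ => Polynomial.eval₂ φ F q) (RingHom.ext_int _ _)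
  -- the determinant at a split polynomial
  have key : zpHom l (LinearMap.det (Polynomial.aeval F (q.map (Int.castRingHom ℤ_[l])))) =
      ((q.map (Int.castRingHom (PadicAlgCl l))).roots.map fun t =>
        (-1) ^ (Fintype.card (Module.Free.ChooseBasisIndex ℤ_[l] (AbDual.TateMod A l T))) *
          (F.charpoly.map (zpHom l)).eval t).prod := by
    let M' : Matrix _ _ (PadicAlgCl l) := M.map (zpHom l)
    have e1 : LinearMap.toMatrix b b (Polynomial.aeval F (q.map (Int.castRingHom ℤ_[l]))) =
        Polynomial.aeval M (q.map (Int.castRingHom ℤ_[l])) :=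
      (Polynomial.aeval_algHom_apply (LinearMap.toMatrixAlgEquiv b).toAlgHom F _).symm
    rw [← LinearMap.det_toMatrix b, e1, RingHom.map_det]
    have e2 : (zpHom l).mapMatrix (Polynomial.aeval M (q.map (Int.castRingHom ℤ_[l]))) =
        Polynomial.aeval M' (q.map (Int.castRingHom (PadicAlgCl l))) := by
      rw [Polynomial.aeval_def, Polynomial.hom_eval₂, Polynomial.aeval_def, Polynomial.eval₂_map, Polynomial.eval₂_map]
      exact congrArg (fun φ => Polynomial.eval₂ φ M' q) (RingHom.ext_int _ _)
    rw [e2]
    conv_lhs => rw [(IsAlgClosed.splits (q.map (Int.castRingHom (PadicAlgCl l)))).eq_prod_roots_of_monic (hq.map _)]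
    induction (q.map (Int.castRingHom (PadicAlgCl l))).roots using Multiset.induction_on with
    | empty => simp
    | cons t s ih =>
      rw [Multiset.map_cons, Multiset.prod_cons, map_mul, Matrix.det_mul, ih, Multiset.map_cons, Multiset.prod_cons,
        map_sub, Polynomial.aeval_X, Polynomial.aeval_C, ← neg_sub, Matrix.det_neg]
      congr 2
      rw [← hM, ← Matrix.charpoly_map, Matrix.eval_charpoly]
      rfl
  have hcast : (v : PadicAlgCl l) = algebraMap ℚ_[l] (PadicAlgCl l) (v : ℚ_[l]) := (map_ratCast _ v).symm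
  have h1 : ‖(v : PadicAlgCl l)‖ = ‖zpHom l (LinearMap.det (Polynomial.aeval F (q.map (Int.castRingHom ℤ_[l]))))‖ := by
    rw [hcast, ← hT]
    exact (PadicAlgCl.norm_extends l _).trans (hn.trans (PadicAlgCl.norm_extends l _).symm)
  have hswap : ∀ F' : (PadicAlgCl l)[X], F'.Monic →
      ‖((q.map (Int.castRingHom (PadicAlgCl l))).roots.map fun t => F'.eval t).prod‖ =
        ‖(F'.roots.map fun a => q.eval₂ (Int.castRingHom (PadicAlgCl l)) a).prod‖ := fun F' hF' => by
    rw [prod_eval_swap hF' (hq.map _), norm_mul, norm_pow, norm_neg, norm_one, one_pow, _root_.one_mul]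
    simp only [Polynomial.eval_map]
  rw [hvK, key, Multiset.prod_map_mul, norm_mul, Multiset.map_const', Multiset.prod_replicate, norm_pow, norm_pow,
    norm_neg, norm_one, one_pow, one_pow, _root_.one_mul, hswap _ (hPm.map _), hswap _ (F.charpoly_monic.map _)] at h1
  exact h1

end Groth.Agent.AVDegPoly
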