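import Groth.Agent.AVDegPoly.Integral
import Groth.Agent.AVDegPoly.AnyField

/-!
Degree, determinant and characteristic polynomial on the Tate module over any ground field.
-/

noncomputable section

set_option linter.style.haveILetI false
set_option linter.unusedSectionVars false
set_option backward.isDefEq.respectTransparency false
set_option backward.isDefEq.respectTransparency.types false
set_option maxHeartbeats 1000000
set_option synthInstance.maxHeartbeats 400000
set_option autoImplicit false

universe u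

open CategoryTheory CategoryTheory.Limits MonoidalCategory CartesianMonoidalCategory MonObj AlgebraicGeometry TopologicalSpace
open scoped Polynomial

namespace Groth.Agent.AVDegPoly

open Groth.Agent.H23 Groth.Agent.AbTors

variable {k Ω : Type u} [Field k] [Field Ω] [Algebra k Ω] {A : Over (Spec (CommRingCat.of k))}
  [GrpObj A] [IsCommMonObj A] [IsProper A.hom] [GeometricallyIntegral A.hom]

/-- The degree polynomial of an endomorphism: it gives the characteristic polynomial on every Tate module
and the degree at zero. -/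
theorem exists_charpoly_data [IsAlgClosed Ω] (f : A ⟶ A) [IsMonHom f] :
    ∃ (g : ℕ) (P : ℤ[X]), topologicalKrullDim A.left = g ∧ P.Monic ∧
      (∀ (l : ℕ) [Fact l.Prime], (l : k) ≠ 0 →
        ∀ [Module.Free ℤ_[l] (AbDual.TateMod A l (SGA7.pt Ω))] [Module.Finite ℤ_[l] (AbDual.TateMod A l (SGA7.pt Ω))],
          Module.finrank ℤ_[l] (AbDual.TateMod A l (SGA7.pt Ω)) = 2 * g ∧
          (AbDual.tateMapₗ (l := l) (T := SGA7.pt Ω) f).charpoly = P.map (Int.castRingHom ℤ_[l])) ∧
      IsDeg f (P.eval 0 : ℤ) := by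
  let F := Over.pullback (ext k Ω)
  obtain ⟨_, _⟩ := bc_props k Ω A
  haveI : IsCommMonObj (Red.bc (ext k Ω) A) := isCommMonObj_of_isProper_of_geometricallyIntegral _
  haveI : Subsingleton ↥(Spec (CommRingCat.of k)) := FibDim.subsingleton_spec_field k
  haveI : Subsingleton ↥(Spec (CommRingCat.of Ω)) := FibDim.subsingleton_spec_field Ω
  haveI : Nonempty ↥(Spec (CommRingCat.of Ω)) := inferInstanceAs (Nonempty (PrimeSpectrum Ω))
  obtain ⟨g, hg'⟩ := exists_dim (Red.bc (ext k Ω) A)
  have hg : topologicalKrullDim A.left = g :=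
    (FibDim.topologicalKrullDim_baseChange (IsPullback.of_hasPullback A.hom (ext k Ω))).symm.trans hg'
  let f' : Red.bc (ext k Ω) A ⟶ Red.bc (ext k Ω) A := F.map f
  haveI : IsMonHom f' := H23.BcComp.isMonHom_bc_map (ext k Ω) f
  obtain ⟨P, hPm, hP⟩ := exists_int_degree_poly hg' (EndAV.End.of f')
  refine ⟨g, P, hg, hPm, fun l _ hl _ _ => ?_, ?_⟩
  · have hlΩ : (l : Ω) ≠ 0 := by
      rw [← map_natCast (algebraMap k Ω) l]
      exact (map_ne_zero (algebraMap k Ω)).2 hl
    obtain ⟨b⟩ := exists_tateBasis (A := Red.bc (ext k Ω) A) hg' hlΩ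
    haveI := Module.Free.of_basis b
    haveI := Module.Finite.of_basis b
    let e : AbDual.TateMod A l (SGA7.pt Ω) ≃ₗ[ℤ_[l]] AbDual.TateMod (Red.bc (ext k Ω) A) l (tpt Ω) :=
      { tateEquiv (A := A) (l := l) with map_smul' := fun c X => tateEquiv_smul c X }
    refine ⟨by rw [e.finrank_eq, Module.finrank_eq_card_basis b, Fintype.card_fin], ?_⟩
    have hconj : e.conj (AbDual.tateMapₗ (l := l) (T := SGA7.pt Ω) f) =
        AbDual.tateMapₗ (A := Red.bc (ext k Ω) A) (l := l) (T := tpt Ω) f' :=
      LinearMap.ext fun Y => by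
        refine (tateEquiv_tateMap f (e.symm Y)).trans ?_
        exact congrArg (AbDual.tateMap f') (e.apply_symm_apply Y)
    rw [← e.charpoly_conj, hconj]
    exact charpoly_eq_of_norm hg' _ (fun h _ v hv => norm_deg_eq_norm_det hg' hlΩ h v hv) f' hP
  · have h0 := hP 0
    rw [Int.cast_zero, sub_zero, EndAV.End.toHom_of] at h0
    refine ⟨fun hf b => ?_, fun hf => h0.2 fun h => hf (isFinite_of_bc Ω hg hg hg' hg' f h)⟩
    haveI := hf
    obtain ⟨_, _, _⟩ := hom_props hg hg f
    have hf' : IsFinite f'.left := MorphismProperty.of_isPullback (isPullback_map (Ω := Ω) f) hf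
    haveI : Surjective (ext k Ω) :=
      ⟨fun x => ⟨IsLocalRing.closedPoint Ω, Subsingleton.elim (α := PrimeSpectrum k) _ _⟩⟩
    haveI : Surjective (pullback.fst A.hom (ext k Ω)) := MorphismProperty.pullback_fst _ _ inferInstance
    obtain ⟨b', rfl⟩ := (pullback.fst A.hom (ext k Ω)).surjective b
    refine Eq.trans ?_ (h0.1 hf' b')
    exact congrArg Nat.cast (Scheme.Hom.finrank_of_isPullback _ _ _ _ (isPullback_map (Ω := Ω) f) b').symm

end Groth.Agent.AVDegPoly
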