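import Groth.Agent.AVDegPoly.Sections
import Groth.Agent.AmpleVan.Vanish
import Groth.Agent.H23.PicMul

/-!
Sections of the powers of an ample module and of its pullback along a finite surjection.
-/

noncomputable section

set_option linter.style.haveILetI false
set_option linter.unusedSectionVars false
set_option backward.isDefEq.respectTransparency false
set_option backward.isDefEq.respectTransparency.types false
set_option maxHeartbeats 1000000
set_option autoImplicit false

universe u

open CategoryTheory CategoryTheory.Limits AlgebraicGeometry TopologicalSpace Opposite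

namespace Groth.Agent.AVDegPoly

open Groth.Agent.InvX Groth.Agent.AVDegLib Groth.Agent.H23

variable {k : Type u} [Field k]

/-- The dimension of the sections of the `M`-th power. -/
def h0pow {X : Over (Spec (CommRingCat.of k))} (L : X.left.Modules) (M : ℕ) : ℕ :=
  letI : X.left.Over (Spec (CommRingCat.of k)) := ⟨X.hom⟩
  Module.finrank k (Coh.HH X.left (CohB1.tensorPow L M) 0)

theorem bdd_pow {X : Over (Spec (CommRingCat.of k))} [IsIntegral X.left] {L : X.left.Modules} (β : GenFrame L) {ι : Type u}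
    (C : Chart X ι) (σ : ∀ i, Γ(L, C.U i)) (hσ : ∀ i, rho β (C.hη i) (σ i) = C.y i) (M : ℕ) :
    bdd (⟨β.U, AmpleX.powElt β.e M, AmpleX.isFrame_powElt β.he M, β.hη⟩ : GenFrame (CohB1.tensorPow L M))
      C.U C.hη (fun i => AmpleX.powElt (σ i) M) = C.sys.F M := by
  ext f
  rw [mem_bdd, Sys.mem_F]
  refine forall_congr' fun i => ?_
  rw [rho_pow, hσ]
  rfl

/-- Growth of the sections of powers of an ample module and of its pullback. -/
theorem exists_growth {A B : Over (Spec (CommRingCat.of k))} [IsIntegral A.left] [IsIntegral B.left]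
    [IsProper A.hom] [IsProper B.hom] {g : ℕ} (hgA : topologicalKrullDim A.left = g) (hgB : topologicalKrullDim B.left = g)
    (φ : A ⟶ B) [IsFinite φ.left] [Surjective φ.left] [Flat φ.left] [LocallyOfFinitePresentation φ.left]
    {L : B.left.Modules} (hL : CohB1.IsAmple L) (y : B.left) :
    ∃ a e E c : ℕ, 0 < a ∧ 0 < c ∧
      (∀ m, (m + 1) ^ g ≤ h0pow (CohB1.tensorPow L a) (c * m)) ∧
      (∀ M, φ.left.finrank y * h0pow (CohB1.tensorPow L a) M ≤
        h0pow ((Scheme.Modules.pullback φ.left).obj (CohB1.tensorPow L a)) (M + e)) ∧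
      (∀ M, h0pow ((Scheme.Modules.pullback φ.left).obj (CohB1.tensorPow L a)) M ≤
        φ.left.finrank y * h0pow (CohB1.tensorPow L a) (M + E)) := by
  classical
  haveI : CompactSpace B.left := hL.2.1
  haveI : B.left.IsSeparated := ⟨by rw [← Limits.terminal.comp_from B.hom]; infer_instance⟩
  obtain ⟨a, ha, κ, _, s, haff, -, hcov⟩ := AmpleX.exists_cover_genLocus hL
  let L' := CohB1.tensorPow L a
  let ι := {i : κ // (CohB1.genLocus _ (s i) : Set B.left).Nonempty}
  obtain ⟨j₀, hj₀⟩ := hcov (genericPoint B.left)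
  let σ : ι → Γ(L', ⊤) := fun i => InvX.one (s i.1)
  have hloc : ∀ i : ι, TrivBasic.locus (σ i) = CohB1.genLocus _ (s i.1) := fun i =>
    congrArg (CohB1.genLocus _) (sub_eq_zero.1 (AmpleX.eq_zero_of_one_eq_zero _ (by
      show one (ofSect _) - one (s i.1) = 0
      rw [one_ofSect]; exact sub_self _)))
  let D : Data L' ι :=
    { σ := σ
      i0 := ⟨j₀, _, hj₀⟩
      hη := fun i => by rw [hloc]; exact eta_mem B i.2.some_mem
      haff := fun i => by rw [hloc]; exact haff i.1
      cover := fun x => by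
        obtain ⟨i, hi⟩ := hcov x
        exact ⟨⟨i, _, hi⟩, by rw [hloc]; exact hi⟩ }
  let C := D.chart
  let C' := C.pull φ
  -- downstairs
  have hB : ∀ M, h0pow L' M = C.sys.h M := fun M => by
    rw [Sys.h, ← bdd_pow D.base C (fun i => D.sec i) (fun i => rfl) M]
    exact finrank_HH_zero _ C.U C.hη _ (fun i => AmpleX.isFrame_powElt (D.isFrame_sec i) M) C.cover
  -- upstairs
  let P := (Scheme.Modules.pullback φ.left).obj L'
  let β : GenFrame P := ⟨φ.left ⁻¹ᵁ D.base.U, pullElt φ.left D.base.e, isFrame_pullElt φ.left D.base.he,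
    eta_preimage φ D.base.hη⟩
  let τ : ∀ i, Γ(P, C'.U i) := fun i => pullElt φ.left (D.sec i)
  have hτ : ∀ i, rho β (C'.hη i) (τ i) = C'.y i := fun i => by
    obtain ⟨a, ha⟩ := (D.isFrame_sec C.i0).exists_coord (inf_le_right : C.U i ⊓ C.U C.i0 ≤ C.U C.i0)
      (AModX.res L' inf_le_left (D.sec i))
    have hW : genericPoint B.left ∈ C.U i ⊓ C.U C.i0 := ⟨C.hη i, C.hη C.i0⟩
    have h1 := congrArg (rho D.base hW) ha
    rw [rho_smul, rho_res, rho_res, show rho D.base _ (D.sec C.i0) = 1 from rho_self D.base, mul_one] at h1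
    have h2 := congrArg (pullElt φ.left) ha
    rw [pullElt_smul, ← res_pullElt, ← res_pullElt] at h2
    have h3 := congrArg (rho β (eta_preimage φ hW)) h2
    rw [rho_smul, rho_res, rho_res, show rho β _ (pullElt φ.left (D.sec C.i0)) = 1 from rho_self β, mul_one,
      ← ffMap_gm φ hW, ← h1] at h3
    exact h3
  have hA : ∀ M, h0pow P M = C'.sys.h M := fun M => by
    rw [Sys.h, ← bdd_pow β C' τ hτ M]
    exact finrank_HH_zero _ C'.U C'.hη _ (fun i => AmpleX.isFrame_powElt (isFrame_pullElt φ.left (D.isFrame_sec i)) M) C'.cover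
  letI := ffExt φ
  haveI := isScalarTower_ff φ
  haveI := finiteDimensional_ff φ
  rw [finrank_eq φ y]
  have hS := C.good hgB
  have hS' := C'.good hgA
  obtain ⟨c, hc, hlo⟩ := hS.exists_lower
  obtain ⟨U, hU⟩ := hS.exists_upper
  obtain ⟨U', hU'⟩ := hS'.exists_upper
  obtain ⟨e, he⟩ := C.sys.exists_ge C'.sys rfl (fun i => rfl) (fun i r hr => hR_pull φ C i hr) hS'.frac fun M => (hU' M).1
  obtain ⟨E, hE⟩ := C.sys.exists_le C'.sys rfl (fun i => rfl) (hfin_pull φ C) hS.frac fun M => (hU M).1
  exact ⟨a, e, E, c, ha, hc, fun m => (hlo m).trans (hB _).ge,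
    fun M => by rw [hB, hA]; exact he M, fun M => by rw [hB, hA]; exact hE M⟩

end Groth.Agent.AVDegPoly
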