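import Groth.Agent.AVDegPoly.LPart
import Groth.Agent.AVTors2.HomFG
import Groth.Prelude.Def_EndTate
import Mathlib.RingTheory.Polynomial.ScaleRoots
import Mathlib.RingTheory.IntegralClosure.IntegrallyClosed
import Mathlib.Analysis.Normed.Field.Lemmas

/-!
The degree polynomial of an endomorphism has integral coefficients.
-/

noncomputable section

set_option linter.style.haveILetI false
set_option linter.unusedSectionVars false
set_option backward.isDefEq.respectTransparency false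
set_option backward.isDefEq.respectTransparency.types false
set_option maxHeartbeats 1600000
set_option synthInstance.maxHeartbeats 400000
set_option autoImplicit false

universe u

open CategoryTheory CategoryTheory.Limits MonoidalCategory CartesianMonoidalCategory MonObj AlgebraicGeometry TopologicalSpace
open scoped Polynomial

namespace Groth.Agent.AVDegPoly

theorem exists_scaleRoots_int (R : ℚ[X]) (hR : R.Monic) :
    ∃ D : ℕ, 0 < D ∧ ∃ P : ℤ[X], P.map (Int.castRingHom ℚ) = R.scaleRoots (D : ℚ) := by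
  refine ⟨∏ i ∈ R.support, (R.coeff i).den, Finset.prod_pos fun i _ => (R.coeff i).den_pos, ?_⟩
  set D := ∏ i ∈ R.support, (R.coeff i).den
  refine Polynomial.mem_lifts _ |>.1 ((Polynomial.lifts_iff_coeff_lifts _).2 fun i => ?_)
  rw [Polynomial.coeff_scaleRoots]
  rcases lt_trichotomy i R.natDegree with hi | rfl | hi
  · by_cases h0 : R.coeff i = 0
    · exact ⟨0, by simp [h0]⟩
    obtain ⟨c, hc⟩ : (R.coeff i).den ∣ D := Finset.dvd_prod_of_mem _ (Polynomial.mem_support_iff.2 h0)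
    obtain ⟨e, he⟩ : ∃ e, R.natDegree - i = e + 1 := ⟨R.natDegree - i - 1, by omega⟩
    refine ⟨(R.coeff i).num * c * (D : ℤ) ^ e, ?_⟩
    rw [he, pow_succ, eq_intCast]
    push_cast
    conv_rhs => rw [← Rat.num_div_den (R.coeff i), show ((D : ℚ)) ^ e * (D : ℚ) = (D : ℚ) ^ e * (((R.coeff i).den : ℚ) * c) by rw [hc]; push_cast; rfl]
    field_simp
  · exact ⟨1, by simp [hR.coeff_natDegree]⟩
  · exact ⟨0, by simp [Polynomial.coeff_eq_zero_of_natDegree_lt hi]⟩

/-- A monic rational polynomial whose roots are integral has integral coefficients. -/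
theorem exists_int_of_isIntegral_roots {K : Type*} [Field K] [CharZero K] [IsAlgClosed K] (R : ℚ[X]) (hR : R.Monic)
    (h : ∀ b ∈ (R.map (algebraMap ℚ K)).roots, IsIntegral ℤ b) :
    ∃ P : ℤ[X], P.Monic ∧ P.map (Int.castRingHom ℚ) = R := by
  have hmem : R.map (algebraMap ℚ K) ∈ Polynomial.lifts (integralClosure ℤ K).toSubring.subtype := by
    rw [(IsAlgClosed.splits (R.map (algebraMap ℚ K))).eq_prod_roots_of_monic (hR.map _)]
    refine Submonoid.multiset_prod_mem (S := (Polynomial.lifts (integralClosure ℤ K).toSubring.subtype).toSubmonoid) _ fun x hx => ?_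
    obtain ⟨b, hb, rfl⟩ := Multiset.mem_map.1 hx
    refine (Polynomial.mem_lifts _).2 ⟨Polynomial.X - Polynomial.C ⟨b, h b hb⟩, ?_⟩
    simp
    rfl
  have hl : R ∈ Polynomial.lifts (Int.castRingHom ℚ) := (Polynomial.lifts_iff_coeff_lifts _).2 fun i => by
    obtain ⟨⟨y, hy⟩, hyi⟩ := (Polynomial.lifts_iff_coeff_lifts _).1 hmem i
    rw [Polynomial.coeff_map] at hyi
    have h1 : IsIntegral ℤ (algebraMap ℚ K (R.coeff i)) := hyi ▸ hy
    obtain ⟨z, hz⟩ := IsIntegrallyClosed.isIntegral_iff.1 ((isIntegral_algebraMap_iff (algebraMap ℚ K).injective).1 h1)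
    exact ⟨z, by rw [← hz]; rfl⟩
  obtain ⟨P, hP, -, hPm⟩ := Polynomial.lifts_and_degree_eq_and_monic hl hR
  exact ⟨P, hPm, hP⟩

variable {k : Type u} [Field k] [IsAlgClosed k] {A : Over (Spec (CommRingCat.of k))} [GrpObj A] [IsCommMonObj A]
  [IsProper A.hom] [GeometricallyIntegral A.hom]

theorem exists_prime_ne_zero (k : Type u) [Field k] : ∃ l : ℕ, l.Prime ∧ (l : k) ≠ 0 := by
  by_cases h2 : ((2 : ℕ) : k) = 0
  · refine ⟨3, Nat.prime_three, fun h3 => one_ne_zero (α := k) ?_⟩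
    calc (1 : k) = ((3 : ℕ) : k) - ((2 : ℕ) : k) := by norm_num
      _ = 0 := by rw [h2, h3, sub_zero]
  · exact ⟨2, Nat.prime_two, h2⟩

/-- The rational degree polynomial of `α - n`. -/
theorem exists_rat_degree_poly {g : ℕ} (hg : topologicalKrullDim A.left = g) (φ : EndAV.End A) :
    ∃ R : ℚ[X], R.Monic ∧ R.natDegree = 2 * g ∧ ∀ n : ℤ, IsDeg (φ - (n : EndAV.End A)).toHom (R.eval (n : ℚ)) := by
  obtain ⟨Q, hQm, hQd, hQ⟩ := S12010.result k A g hg φ.toHom
  refine ⟨Q.comp (-Polynomial.X), ?_, ?_, fun n => ?_⟩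
  · rw [Polynomial.Monic, Polynomial.leadingCoeff_comp (by simp), hQm.leadingCoeff, _root_.one_mul,
      Polynomial.leadingCoeff_neg, Polynomial.leadingCoeff_X, hQd, Even.neg_one_pow (even_two_mul g)]
  · rw [Polynomial.natDegree_comp, hQd, Polynomial.natDegree_neg, Polynomial.natDegree_X, Nat.mul_one]
  · rw [sub_eq_add_neg, ← Int.cast_neg, EndAV.End.toHom_add, EndAV.End.toHom_intCast, Polynomial.eval_comp,
      Polynomial.eval_neg, Polynomial.eval_X, ← Int.cast_neg]
    exact ⟨(hQ (-n)).1, fun h => (hQ (-n)).2 h⟩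

theorem isDeg_intCast {g : ℕ} (hg : topologicalKrullDim A.left = g) {d : ℤ} (hd : d ≠ 0) :
    IsDeg ((d : EndAV.End A)).toHom ((d.natAbs ^ (2 * g) : ℕ) : ℚ) := by
  rw [EndAV.End.toHom_intCast]
  exact ⟨fun _ b => by rw [AVDegLib.finrank_zpow hg d hd b], fun h => absurd (AVDegLib.zpow_props (A := A) d hd).1 h⟩

/-- The degree polynomial has integral coefficients. -/
theorem exists_int_degree_poly {g : ℕ} (hg : topologicalKrullDim A.left = g) (φ : EndAV.End A) :
    ∃ P : ℤ[X], P.Monic ∧ ∀ n : ℤ, IsDeg (φ - (n : EndAV.End A)).toHom (P.eval n : ℤ) := by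
  classical
  obtain ⟨R, hRm, hRd, hR⟩ := exists_rat_degree_poly hg φ
  obtain ⟨D, hD, PD, hPD⟩ := exists_scaleRoots_int R hRm
  haveI : Nonempty A.left := ⟨η[A].left (IsLocalRing.closedPoint k)⟩
  let β : EndAV.End A := ((D : ℤ) : EndAV.End A) * φ
  obtain ⟨Rβ, -, -, hRβ⟩ := exists_rat_degree_poly hg β
  have hD0 : (D : ℚ) ≠ 0 := by exact_mod_cast hD.ne'
  have heq : Rβ = R.scaleRoots (D : ℚ) := by
    refine Polynomial.eq_of_infinite_eval_eq _ _ ((Set.infinite_range_of_injective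
      (f := fun m : ℤ => (D : ℚ) * m) fun a b h => Int.cast_injective (mul_left_cancel₀ hD0 h)).mono ?_)
    rintro _ ⟨m, rfl⟩
    show Polynomial.eval _ _ = Polynomial.eval _ _
    rw [Polynomial.scaleRoots_eval_mul, hRd]
    have h1 := hRβ ((D : ℤ) * m)
    rw [show (((D : ℤ) * m : ℤ) : ℚ) = (D : ℚ) * m by push_cast; rfl] at h1
    refine h1.unique ?_
    rw [show β - (((D : ℤ) * m : ℤ) : EndAV.End A) = ((D : ℤ) : EndAV.End A) * (φ - (m : EndAV.End A)) by
      rw [mul_sub, Int.cast_mul], EndAV.End.toHom_mul, mul_comm]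
    exact IsDeg.comp hg hg hg (hR m) (by simpa using isDeg_intCast hg (show (D : ℤ) ≠ 0 by exact_mod_cast hD.ne'))
  have hPDm : ∀ n : ℤ, IsDeg (EndAV.End.of β.toHom - (n : EndAV.End A)).toHom (PD.eval n : ℤ) := fun n => by
    have h1 := hRβ n
    rw [heq, ← hPD, ← eq_intCast (Int.castRingHom ℚ) n, Polynomial.eval_map, Polynomial.eval₂_at_apply] at h1
    exact h1
  obtain ⟨l, hlp, hl⟩ := exists_prime_ne_zero k
  haveI : Fact l.Prime := ⟨hlp⟩
  obtain ⟨b⟩ := exists_tateBasis hg hl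
  haveI : Module.Free ℤ_[l] (AbDual.TateMod A l (Over.mk (𝟙 (Spec (CommRingCat.of k))))) := Module.Free.of_basis b
  haveI : Module.Finite ℤ_[l] (AbDual.TateMod A l (Over.mk (𝟙 (Spec (CommRingCat.of k))))) := Module.Finite.of_basis b
  have hcp : (EndAV.End.tateRep (A := A) l (Over.mk (𝟙 (Spec (CommRingCat.of k)))) β).charpoly =
      PD.map (Int.castRingHom ℤ_[l]) :=
    charpoly_eq_of_norm hg _ (fun f _ v hv => norm_deg_eq_norm_det hg hl f v hv) β.toHom hPDm
  obtain ⟨-, hfin, -⟩ := AVTors2.hom_finite_free (A := A) (B := A) hg hg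
  haveI : Module.Finite ℤ (EndAV.End A) := hfin
  obtain ⟨h, hhm, hh0⟩ := IsIntegral.of_finite ℤ φ
  let ρ : EndAV.End A →+* Matrix (Fin (2 * g)) (Fin (2 * g)) (PadicAlgCl l) :=
    (zpHom l).mapMatrix.comp ((LinearMap.toMatrixAlgEquiv b).toRingEquiv.toRingHom.comp
      (EndAV.End.tateRep (A := A) l (Over.mk (𝟙 (Spec (CommRingCat.of k))))))
  have hchar : (ρ β).charpoly = (R.scaleRoots (D : ℚ)).map (algebraMap ℚ (PadicAlgCl l)) := by
    rw [← hPD, Polynomial.map_map, show (algebraMap ℚ (PadicAlgCl l)).comp (Int.castRingHom ℚ) = (zpHom l).comp (Int.castRingHom ℤ_[l])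
      from RingHom.ext_int _ _, ← Polynomial.map_map, ← hcp, ← LinearMap.charpoly_toMatrix _ b, ← Matrix.charpoly_map]
    rfl
  obtain ⟨P, hPm, hP⟩ := exists_int_of_isIntegral_roots (K := PadicAlgCl l) R hRm fun x hx => by
    rw [Polynomial.mem_roots (hRm.map _).ne_zero, Polynomial.IsRoot.def] at hx
    have h1 : (ρ β).charpoly.eval ((D : (PadicAlgCl l)) * x) = 0 := by
      rw [hchar, Polynomial.eval_map]
      have := Polynomial.scaleRoots_eval₂_mul (p := R) (algebraMap ℚ (PadicAlgCl l)) x (D : ℚ)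
      rw [map_natCast] at this
      rw [this, ← Polynomial.eval_map, hx, mul_zero]
    have hρβ : ρ β = (D : (PadicAlgCl l)) • ρ φ := by
      rw [map_mul, map_intCast, Int.cast_natCast, ← nsmul_eq_mul, Nat.cast_smul_eq_nsmul]
    have h2 : (Matrix.scalar (Fin (2 * g)) x - ρ φ).det = 0 := by
      rw [Matrix.eval_charpoly, hρβ, show Matrix.scalar (Fin (2 * g)) ((D : (PadicAlgCl l)) * x) - (D : (PadicAlgCl l)) • ρ φ =
        (D : (PadicAlgCl l)) • (Matrix.scalar (Fin (2 * g)) x - ρ φ) by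
          rw [smul_sub]; congr 1
          ext i j
          by_cases hij : i = j <;> simp [hij], Matrix.det_smul] at h1
      exact (mul_eq_zero.1 h1).resolve_left (pow_ne_zero _ (by exact_mod_cast hD.ne'))
    have hx' : x ∈ spectrum (PadicAlgCl l) (ρ φ) := by
      rw [spectrum.mem_iff, Matrix.isUnit_iff_isUnit_det, Matrix.algebraMap_eq_diagonal]
      intro hu
      refine hu.ne_zero ?_
      rw [← h2]
      congr 1
    have h3 := spectrum.subset_polynomial_aeval (ρ φ) (h.map (Int.castRingHom (PadicAlgCl l))) ⟨x, hx', rfl⟩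
    have h4 : Polynomial.aeval (ρ φ) (h.map (Int.castRingHom (PadicAlgCl l))) = 0 := by
      have h5 := congrArg ρ hh0
      rw [map_zero, Polynomial.hom_eval₂] at h5
      rw [Polynomial.aeval_def, Polynomial.eval₂_map, ← h5]
      exact congrArg (fun f => Polynomial.eval₂ f (ρ φ) h) (RingHom.ext_int _ _)
    rw [h4, spectrum.mem_iff, sub_zero] at h3
    refine ⟨h, hhm, ?_⟩
    by_contra hne
    refine h3 ((IsUnit.mk0 _ ?_).map (algebraMap (PadicAlgCl l) _))
    show Polynomial.eval x (Polynomial.map _ h) ≠ 0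
    rw [Polynomial.eval_map]
    rw [← algebraMap_int_eq]
    exact hne
  refine ⟨P, hPm, fun n => ?_⟩
  have h1 := hR n
  rw [← hP, ← eq_intCast (Int.castRingHom ℚ) n, Polynomial.eval_map, Polynomial.eval₂_at_apply] at h1
  exact h1

end Groth.Agent.AVDegPoly
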