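import Groth.Agent.AVDegPoly.CharPoly
import Groth.Agent.S15672

/-!
The `l`-part of the degree of an endomorphism is the absolute value of its determinant on the Tate module.
-/

noncomputable section

set_option linter.style.haveILetI false
set_option linter.unusedSectionVars false
set_option backward.isDefEq.respectTransparency false
set_option backward.isDefEq.respectTransparency.types false
set_option maxHeartbeats 1000000
set_option synthInstance.maxHeartbeats 400000
set_option autoImplicit false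

universe u

open CategoryTheory CategoryTheory.Limits MonoidalCategory CartesianMonoidalCategory MonObj AlgebraicGeometry TopologicalSpace

namespace Groth.Agent.AVDegPoly

theorem padicNorm_natCast_eq {l : ℕ} [Fact l.Prime] {n : ℕ} (hn : n ≠ 0) {a : ℤ_[l]} (ha : a ≠ 0)
    (h : padicValNat l n = a.valuation) : ‖((n : ℚ) : ℚ_[l])‖ = ‖(a : ℚ_[l])‖ := by
  have h1 : ((n : ℤ_[l]) : ℤ_[l]).valuation = padicValNat l n := by
    have := PadicInt.valuation_coe (n : ℤ_[l])
    rw [PadicInt.coe_natCast, Padic.valuation_natCast] at this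
    exact_mod_cast this.symm
  rw [Rat.cast_natCast, ← PadicInt.coe_natCast, ← PadicInt.norm_def, ← PadicInt.norm_def,
    PadicInt.norm_eq_zpow_neg_valuation (Nat.cast_ne_zero.2 hn), PadicInt.norm_eq_zpow_neg_valuation ha, h1, h]

variable {k : Type u} [Field k] [IsAlgClosed k] {A : Over (Spec (CommRingCat.of k))} [GrpObj A] [IsCommMonObj A]
  [IsProper A.hom] [GeometricallyIntegral A.hom]

local notation "𝐓" => Over.mk (𝟙 (Spec (CommRingCat.of k)))

theorem exists_tateBasis {g : ℕ} (hg : topologicalKrullDim A.left = g) {l : ℕ} [Fact l.Prime] (hl : (l : k) ≠ 0) :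
    Nonempty (Module.Basis (Fin (2 * g)) ℤ_[l] (AbDual.TateMod A l 𝐓)) := by
  obtain ⟨e⟩ := AbTors.exists_tateEquiv (l := l) (A := A) (T := 𝐓) (r := 2 * g)
    (fun x => AbTors.divisible A (Fact.out : l.Prime).one_le x)
    (fun n => by
      rw [pow_mul]
      exact AbTors.card_torsPts A hg (N := l ^ n) (by rw [Nat.cast_pow]; exact pow_ne_zero _ hl))
  exact ⟨Module.Basis.ofEquivFun e.symm⟩

theorem tateMod_props {g : ℕ} (hg : topologicalKrullDim A.left = g) {l : ℕ} [Fact l.Prime] (hl : (l : k) ≠ 0) :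
    Module.Free ℤ_[l] (AbDual.TateMod A l 𝐓) ∧ Module.Finite ℤ_[l] (AbDual.TateMod A l 𝐓) := by
  obtain ⟨b⟩ := exists_tateBasis hg hl
  exact ⟨Module.Free.of_basis b, Module.Finite.of_basis b⟩

/-- The `l`-part of the degree is that of the determinant on the Tate module. -/
theorem norm_deg_eq_norm_det {g : ℕ} (hg : topologicalKrullDim A.left = g) {l : ℕ} [Fact l.Prime] (hl : (l : k) ≠ 0)
    (f : A ⟶ A) [IsMonHom f] (v : ℚ) (hv : IsDeg f v) :
    ‖(v : ℚ_[l])‖ = ‖((LinearMap.det (AbDual.tateMapₗ (l := l) (T := 𝐓) f) : ℤ_[l]) : ℚ_[l])‖ := by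
  classical
  haveI : Nonempty A.left := ⟨η[A].left (IsLocalRing.closedPoint k)⟩
  obtain ⟨b⟩ := exists_tateBasis hg hl
  haveI : Module.Free ℤ_[l] (AbDual.TateMod A l 𝐓) := Module.Free.of_basis b
  haveI : Module.Finite ℤ_[l] (AbDual.TateMod A l 𝐓) := Module.Finite.of_basis b
  by_cases hf : IsFinite f.left
  swap
  · obtain ⟨x, hx, hx0⟩ := not_injective_tateMap_of_not_finite hl f hf
    have : LinearMap.det (AbDual.tateMapₗ (l := l) (T := 𝐓) f) = 0 := by
      by_contra h
      refine hx (LinearMap.ker_eq_bot.1 (not_not.1 (mt LinearMap.det_eq_zero_iff_ker_ne_bot.2 h)) ?_)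
      rw [hx0, map_zero]
    rw [hv.2 hf, this]
    simp
  haveI : IsIntegral A.left := GeometricallyIntegral.isIntegral_of_subsingleton A.hom
  obtain ⟨a⟩ := ‹Nonempty A.left›
  have hval := S15672.result k l hl A A g hg hg f hf b b a
  obtain ⟨_, _, _⟩ := hom_props hg hg f
  have hn : Scheme.Hom.finrank f.left a ≠ 0 := by
    have h0 : 1 ≤ Scheme.Hom.finrank f.left a := (Scheme.Hom.one_le_finrank_iff_surjective f.left).2 inferInstance a
    omega
  have hinj := AVTors2.tateMap_injective (l := l) (T := 𝐓) f (AVTors2.finite_fibre f (𝟙 _) 1)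
  have hdet : LinearMap.det (AbDual.tateMapₗ (l := l) (T := 𝐓) f) ≠ 0 :=
    mt LinearMap.det_eq_zero_iff_ker_ne_bot.1 (not_not.2 (LinearMap.ker_eq_bot.2 hinj))
  rw [← hv.1 hf a]
  exact padicNorm_natCast_eq hn hdet (by rw [hval, LinearMap.det_toMatrix])

end Groth.Agent.AVDegPoly
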