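import Groth.Agent.AVDegPoly.Vanish
import Groth.Prelude

/-!
The degree of homomorphisms, extended by zero, is multiplicative.
-/

noncomputable section

set_option linter.style.haveILetI false
set_option linter.unusedSectionVars false
set_option backward.isDefEq.respectTransparency false
set_option backward.isDefEq.respectTransparency.types false
set_option maxHeartbeats 1000000
set_option autoImplicit false

universe u

open CategoryTheory CategoryTheory.Limits MonoidalCategory CartesianMonoidalCategory MonObj AlgebraicGeometry TopologicalSpace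

namespace Groth.Agent.AVDegPoly

open Groth.Agent.H23 Groth.Agent.AVDegLib

variable {k : Type u} [Field k] {A B C : Over (Spec (CommRingCat.of k))}

/-- `v` is the degree of `f`, zero meaning that `f` is not finite. -/
def IsDeg (f : A ⟶ B) (v : ℚ) : Prop :=
  (IsFinite f.left → ∀ b : B.left, (Scheme.Hom.finrank f.left b : ℚ) = v) ∧ (¬ IsFinite f.left → v = 0)

theorem IsDeg.unique [Nonempty B.left] {f : A ⟶ B} {v w : ℚ} (hv : IsDeg f v) (hw : IsDeg f w) : v = w := by
  by_cases h : IsFinite f.left
  · obtain ⟨b⟩ := ‹Nonempty B.left›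
    rw [← hv.1 h b, hw.1 h b]
  · rw [hv.2 h, hw.2 h]

theorem isDeg_id (A : Over (Spec (CommRingCat.of k))) : IsDeg (𝟙 A) 1 := by
  refine ⟨fun _ b => ?_, fun h => absurd (by rw [Over.id_left]; infer_instance) h⟩
  rw [Over.id_left, Scheme.Hom.finrank_eq_one_of_isIso]
  simp

variable [IsAlgClosed k]
  [GrpObj A] [IsProper A.hom] [GeometricallyIntegral A.hom]
  [GrpObj B] [IsCommMonObj B] [IsProper B.hom] [GeometricallyIntegral B.hom]
  [GrpObj C] [IsCommMonObj C] [IsProper C.hom] [GeometricallyIntegral C.hom]

/-- Degrees multiply under composition. -/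
theorem IsDeg.comp {g : ℕ} (hgA : topologicalKrullDim A.left = g) (hgB : topologicalKrullDim B.left = g)
    (hgC : topologicalKrullDim C.left = g) {f : A ⟶ B} {h : B ⟶ C} [IsMonHom f] [IsMonHom h] {v w : ℚ}
    (hv : IsDeg f v) (hw : IsDeg h w) : IsDeg (f ≫ h) (v * w) := by
  haveI : IsIntegral A.left := GeometricallyIntegral.isIntegral_of_subsingleton A.hom
  haveI : IsIntegral B.left := GeometricallyIntegral.isIntegral_of_subsingleton B.hom
  haveI : IsIntegral C.left := GeometricallyIntegral.isIntegral_of_subsingleton C.hom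
  haveI : IsProper (h.left ≫ C.hom) := by rw [Over.w]; infer_instance
  haveI : IsProper h.left := IsProper.of_comp h.left C.hom
  by_cases hf : IsFinite f.left
  swap
  · refine ⟨fun hfin => absurd ?_ hf, fun _ => by rw [hv.2 hf, zero_mul]⟩
    haveI : IsFinite (f.left ≫ h.left) := hfin
    exact IsFinite.of_comp f.left h.left
  obtain ⟨_, _, _⟩ := hom_props hgA hgB f
  by_cases hh : IsFinite h.left
  swap
  · refine ⟨fun hfin => absurd ?_ hh, fun _ => by rw [hw.2 hh, mul_zero]⟩
    refine isFinite_of_finite_ker h ?_
    have hk : Set.Finite {P : 𝟙_ (Over (Spec (CommRingCat.of k))) ⟶ A | P ≫ f ≫ h = 1} := by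
      haveI : JacobsonSpace A.left := LocallyOfFiniteType.jacobsonSpace A.hom
      haveI : IsFinite (f ≫ h).left := hfin
      refine Set.Finite.of_finite_image (((f ≫ h).left.finite_preimage_singleton
        ((1 : 𝟙_ (Over (Spec (CommRingCat.of k))) ⟶ C).left (IsLocalRing.closedPoint k))).subset ?_)
        (f := fun P : 𝟙_ (Over (Spec (CommRingCat.of k))) ⟶ A => P.left (IsLocalRing.closedPoint k))
        fun P _ P' _ e => AbTors.point_ext e
      rintro _ ⟨P, hP, rfl⟩
      show (f ≫ h).left (P.left _) = _
      rw [← Scheme.Hom.comp_apply, ← Over.comp_left, show P ≫ f ≫ h = 1 from hP]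
    refine (hk.image fun P => P ≫ f).subset fun Q hQ => ?_
    obtain ⟨P, hP⟩ := AbTors.exists_point_lift f Q
    refine ⟨P, ?_, hP⟩
    show P ≫ f ≫ h = 1
    rw [← Category.assoc, hP]
    exact hQ
  obtain ⟨_, _, _⟩ := hom_props hgB hgC h
  haveI hfh : IsFinite (f ≫ h).left := by rw [Over.comp_left]; infer_instance
  haveI : Surjective (f ≫ h).left := by rw [Over.comp_left]; infer_instance
  haveI : Flat (f ≫ h).left := by rw [Over.comp_left]; infer_instance
  haveI : LocallyOfFinitePresentation (f ≫ h).left := by rw [Over.comp_left]; infer_instance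
  refine ⟨fun _ c => ?_, fun hn => absurd hfh hn⟩
  obtain ⟨b⟩ : Nonempty B.left := inferInstance
  rw [← hv.1 hf b, ← hw.1 hh c, ← Nat.cast_mul, finrank_eq f b, finrank_eq h c, finrank_eq (f ≫ h) c]
  congr 1
  letI a1 := ffExt f
  letI a2 := ffExt h
  letI a3 := ffExt (f ≫ h)
  haveI : IsScalarTower C.left.functionField B.left.functionField A.left.functionField :=
    IsScalarTower.of_algebraMap_eq fun x => RingHom.congr_fun (ffMap_comp f h) x
  rw [mul_comm]
  exact (Module.finrank_mul_finrank C.left.functionField B.left.functionField A.left.functionField).symm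

end Groth.Agent.AVDegPoly
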