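import Groth.Agent.AVDegPoly.Asymp
import Groth.Agent.Lib.AVPair
import Groth.Agent.S8121
import Groth.Agent.H23.Isogeny
import Groth.Agent.AVDegLib.MulN

/-!
The degree of a combination of homomorphisms is a homogeneous polynomial of degree `2g`.
-/

noncomputable section

set_option linter.style.haveILetI false
set_option linter.unusedSectionVars false
set_option backward.isDefEq.respectTransparency false
set_option backward.isDefEq.respectTransparency.types false
set_option maxHeartbeats 1000000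
set_option autoImplicit false

universe u

open CategoryTheory CategoryTheory.Limits MonoidalCategory CartesianMonoidalCategory MonObj AlgebraicGeometry TopologicalSpace

namespace Groth.Agent.AVDegPoly

open Groth.Agent.H23 Groth.Agent.AVCube
open scoped Groth.Agent.H23.PicMul

theorem isInvertibleCl_inv {X : Scheme.{u}} {u : (PicF.Cl X)ˣ} (h : PicF.IsInvertibleCl (u : PicF.Cl X)) :
    PicF.IsInvertibleCl ((u⁻¹ : (PicF.Cl X)ˣ) : PicF.Cl X) := by
  obtain ⟨d, hd, e⟩ := AVPair.exists_inv h
  rwa [Units.inv_eq_of_mul_eq_one_right e]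

variable (k : Type u) [Field k] {X : Scheme.{u}} [X.Over (Spec (CommRingCat.of k))]
  [IsProper (X ↘ Spec (CommRingCat.of k))]

/-- The leading coefficients along a finitely generated group of classes form a homogeneous polynomial. -/
theorem exists_top_poly {g : ℕ} (hg : topologicalKrullDim X ≤ g) {κ : Type} [Fintype κ] (u : κ → (PicF.Cl X)ˣ)
    (hu : ∀ i, PicF.IsInvertibleCl (u i : PicF.Cl X)) :
    ∃ G : MvPolynomial κ ℚ, G.IsHomogeneous g ∧ ∀ z : κ → ℤ,
      IsTop k g ((∏ i, u i ^ z i : (PicF.Cl X)ˣ) : PicF.Cl X) (MvPolynomial.eval (fun i => (z i : ℚ)) G) := by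
  classical
  let w : κ ⊕ κ → (PicF.Cl X)ˣ := Sum.elim u fun i => (u i)⁻¹
  let e := Fintype.equivFin (κ ⊕ κ)
  obtain ⟨F₀, hF₀, hn₀⟩ := exists_chi_poly k hg (fun i => (w (e.symm i) : PicF.Cl X)) fun i => by
    rcases e.symm i with j | j
    · exact hu j
    · exact isInvertibleCl_inv (hu j)
  let F : MvPolynomial (κ ⊕ κ) ℚ := MvPolynomial.rename e.symm F₀
  have hFn : ∀ a b : κ → ℕ, (chi k ((∏ i, u i ^ ((a i : ℤ) - b i) : (PicF.Cl X)ˣ) : PicF.Cl X) : ℚ) =
      MvPolynomial.eval (Sum.elim (fun i => (a i : ℚ)) fun i => (b i : ℚ)) F := fun a b => by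
    have h := hn₀ fun i => Sum.elim a b (e.symm i)
    rw [MvPolynomial.eval_rename]
    refine Eq.trans (congrArg (fun c => (chi k c : ℚ)) ?_) (h.trans (congrArg (fun f => MvPolynomial.eval f F₀)
      (funext fun i => by show _ = Sum.elim _ _ (e.symm i); rcases e.symm i with j | j <;> rfl)))
    rw [← Equiv.prod_comp e, Fintype.prod_sum_type, Units.coe_prod, ← Finset.prod_mul_distrib]
    refine Finset.prod_congr rfl fun i _ => ?_
    simp only [Equiv.symm_apply_apply, w, Sum.elim_inl, Sum.elim_inr]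
    rw [← Units.val_pow_eq_pow_val, ← Units.val_pow_eq_pow_val, ← Units.val_mul, sub_eq_add_neg, zpow_add,
      zpow_neg, zpow_natCast, zpow_natCast, inv_pow]
  have hFd : F.totalDegree ≤ g := (MvPolynomial.totalDegree_rename_le _ _).trans hF₀
  clear_value F
  -- shifting both exponents changes nothing
  have hshift : ∀ a b t : κ → ℚ, MvPolynomial.eval (Sum.elim (a + t) (b + t)) F = MvPolynomial.eval (Sum.elim a b) F := by
    let φ : κ ⊕ κ → MvPolynomial ((κ ⊕ κ) ⊕ κ) ℚ :=
      Sum.elim (fun i => MvPolynomial.X (Sum.inl (Sum.inl i)) + MvPolynomial.X (Sum.inr i))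
        (fun i => MvPolynomial.X (Sum.inl (Sum.inr i)) + MvPolynomial.X (Sum.inr i))
    have heval : ∀ x : (κ ⊕ κ) ⊕ κ → ℚ, MvPolynomial.eval x (MvPolynomial.aeval φ F) =
        MvPolynomial.eval (Sum.elim (fun i => x (Sum.inl (Sum.inl i)) + x (Sum.inr i))
          (fun i => x (Sum.inl (Sum.inr i)) + x (Sum.inr i))) F := fun x => by
      rw [← MvPolynomial.aeval_eq_eval, MvPolynomial.comp_aeval_apply, MvPolynomial.aeval_eq_eval]
      refine congrArg (fun f => MvPolynomial.eval f F) (funext fun i => ?_)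
      rcases i with i | i <;> simp [φ]
    have hD : MvPolynomial.aeval φ F = MvPolynomial.rename Sum.inl F :=
      MvPolynomial.funext_set (fun _ => Set.range ((↑) : ℕ → ℚ))
        (fun _ => Set.infinite_range_of_injective Nat.cast_injective) fun x hx => by
        choose n hn using fun i => hx i (Set.mem_univ i)
        obtain rfl : x = fun i => (n i : ℚ) := funext fun i => (hn i).symm
        rw [heval, MvPolynomial.eval_rename]
        have h1 := hFn (fun i => n (Sum.inl (Sum.inl i)) + n (Sum.inr i)) fun i => n (Sum.inl (Sum.inr i)) + n (Sum.inr i)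
        have h2 := hFn (fun i => n (Sum.inl (Sum.inl i))) fun i => n (Sum.inl (Sum.inr i))
        simp only [Nat.cast_add, add_sub_add_right_eq_sub] at h1
        refine h1.symm.trans (h2.trans (congrArg (fun f => MvPolynomial.eval f F) (funext fun i => ?_)))
        rcases i with i | i <;> rfl
    intro a b t
    have h := congrArg (MvPolynomial.eval (Sum.elim (Sum.elim a b) t)) hD
    rw [heval, MvPolynomial.eval_rename] at h
    exact h
  refine ⟨MvPolynomial.aeval (Sum.elim MvPolynomial.X 0) (MvPolynomial.homogeneousComponent g F), ?_, fun z => ?_⟩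
  · have h := (MvPolynomial.homogeneousComponent_isHomogeneous g F).aeval (R := ℚ) (n := 1)
      (Sum.elim MvPolynomial.X 0 : κ ⊕ κ → MvPolynomial κ ℚ) fun i => by
        rcases i with i | i
        · exact MvPolynomial.isHomogeneous_X _ _
        · exact MvPolynomial.isHomogeneous_zero _ _ _
    rwa [_root_.one_mul] at h
  let zq : κ ⊕ κ → ℚ := Sum.elim (fun i => (z i : ℚ)) 0
  refine ⟨MvPolynomial.aeval (fun i => Polynomial.C (zq i) * Polynomial.X) F,
    (natDegree_aeval_line_le zq F).trans hFd, ?_, fun m => ?_⟩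
  · rw [coeff_aeval_line, ← MvPolynomial.aeval_eq_eval (f := fun i => (z i : ℚ)), MvPolynomial.comp_aeval_apply,
      MvPolynomial.aeval_eq_eval]
    refine congrArg (fun f => MvPolynomial.eval f _) (funext fun i => ?_)
    rcases i with i | i <;> simp [zq]
  · rw [eval_aeval_line]
    have h := hFn (fun i => ((m : ℤ) * z i).toNat) fun i => (-((m : ℤ) * z i)).toNat
    simp only [Int.toNat_sub_toNat_neg] at h
    rw [← Units.val_pow_eq_pow_val, ← Finset.prod_pow,
      show (∏ i, (u i ^ z i) ^ m : (PicF.Cl X)ˣ) = ∏ i, u i ^ ((m : ℤ) * z i) from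
        Finset.prod_congr rfl fun i _ => by rw [← zpow_natCast, ← zpow_mul, mul_comm], h,
      show (fun i => zq i * (m : ℚ)) = Sum.elim (fun i => (z i : ℚ) * m) (0 : κ → ℚ) from
        funext fun i => by rcases i with i | i <;> simp [zq],
      ← hshift (fun i => (z i : ℚ) * m) 0 (fun i => ((-((m : ℤ) * z i)).toNat : ℚ))]
    refine congrArg (fun f => MvPolynomial.eval f F) (funext fun i => ?_)
    rcases i with i | i
    · have h' : ((((m : ℤ) * z i).toNat : ℤ) : ℚ) = (((m : ℤ) * z i + (-((m : ℤ) * z i)).toNat : ℤ) : ℚ) :=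
        congrArg _ (by omega)
      push_cast at h'
      show _ = (z i : ℚ) * (m : ℚ) + _
      rw [mul_comm (z i : ℚ)]
      exact h'
    · simp

section AV

variable {k} {A B : Over (Spec (CommRingCat.of k))} [GrpObj A] [IsProper A.hom] [GeometricallyIntegral A.hom]
  [GrpObj B] [IsCommMonObj B] [IsProper B.hom] [GeometricallyIntegral B.hom] {L : B.left.Modules} (hL : PicF.IsInvertible L)

/-- The biadditive form of the pullback. -/
def bf {T : Over (Spec (CommRingCat.of k))} (f h : T ⟶ B) : (PicF.Cl T.left)ˣ :=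
  pc hL (f * h) / (pc hL f * pc hL h)

theorem bf_comm {T : Over (Spec (CommRingCat.of k))} (f h : T ⟶ B) : bf hL f h = bf hL h f := by
  rw [bf, bf, mul_comm f h, mul_comm (pc hL f)]

theorem bf_mul_left {T : Over (Spec (CommRingCat.of k))} (f g h : T ⟶ B) : bf hL (f * g) h = bf hL f h * bf hL g h := by
  have e := cube_rel hL f g h
  rw [bf, bf, bf, div_mul_div_comm, div_eq_div_iff_mul_eq_mul]
  calc pc hL (f * g * h) * (pc hL f * pc hL h * (pc hL g * pc hL h))
      = (pc hL (f * g * h) * pc hL f * pc hL g * pc hL h) * pc hL h := by ac_rfl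
    _ = _ := by rw [e]; ac_rfl

theorem bf_self {T : Over (Spec (CommRingCat.of k))} (hsym : pc hL ((𝟙 B)⁻¹ : B ⟶ B) = pc hL (𝟙 B)) (f : T ⟶ B) :
    bf hL f f = pc hL f ^ 2 := by
  have hinv : pc hL f⁻¹ = pc hL f := by
    rw [show f⁻¹ = f ≫ (𝟙 B)⁻¹ by rw [GrpObj.comp_inv, Category.comp_id], ← pull_pc, hsym, pull_pc, Category.comp_id]
  have e := cube_rel hL f f f⁻¹
  rw [mul_inv_cancel_right, mul_inv_cancel, pc_one, hinv, _root_.mul_one, _root_.mul_one] at e
  rw [bf, ← e, div_eq_iff_eq_mul, pow_two]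
  ac_rfl

theorem bf_prod {T : Over (Spec (CommRingCat.of k))} {m : ℕ} (e : Fin m → (T ⟶ B)) (a : Fin m → ℤ) :
    bf hL (∏ i, e i ^ a i) (∏ i, e i ^ a i) = ∏ p : Fin m × Fin m, bf hL (e p.1) (e p.2) ^ (a p.1 * a p.2) := by
  let φ : (T ⟶ B) → (T ⟶ B) →* (PicF.Cl T.left)ˣ := fun h => MonoidHom.mk' (fun f => bf hL f h) fun f g => bf_mul_left hL f g h
  have h1 : ∀ h, bf hL (∏ i, e i ^ a i) h = ∏ i, bf hL (e i) h ^ a i := fun h => by
    show φ h _ = _
    rw [map_prod]
    exact Finset.prod_congr rfl fun i _ => map_zpow (φ h) _ _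
  rw [h1, Fintype.prod_prod_type]
  refine Finset.prod_congr rfl fun i _ => ?_
  rw [bf_comm, h1, ← Finset.prod_zpow]
  exact Finset.prod_congr rfl fun j _ => by rw [← zpow_mul, bf_comm, mul_comm]

theorem isInvertibleCl_bf {T : Over (Spec (CommRingCat.of k))} (f h : T ⟶ B) :
    PicF.IsInvertibleCl (bf hL f h : PicF.Cl T.left) := by
  have hi : ∀ q : T ⟶ B, PicF.IsInvertibleCl (pc hL q : PicF.Cl T.left) := fun q =>
    PicClLib.isInvertibleCl_pullCl q.left ⟨L, rfl, hL⟩
  rw [bf, div_eq_mul_inv, Units.val_mul]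
  refine PicMul.isInvertibleCl_mul (hi _) (isInvertibleCl_inv ?_)
  rw [Units.val_mul]
  exact PicMul.isInvertibleCl_mul (hi _) (hi _)

/-- A finite homomorphism between abelian varieties of the same dimension is surjective and flat. -/
theorem hom_props {g : ℕ} (hgA : topologicalKrullDim A.left = g) (hgB : topologicalKrullDim B.left = g)
    (f : A ⟶ B) [IsMonHom f] [IsFinite f.left] :
    Surjective f.left ∧ Flat f.left ∧ LocallyOfFinitePresentation f.left := by
  haveI : IsIntegral A.left := GeometricallyIntegral.isIntegral_of_subsingleton A.hom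
  haveI : IsIntegral B.left := GeometricallyIntegral.isIntegral_of_subsingleton B.hom
  haveI : Surjective f.left := Isogeny.surjective_of_isFinite (p := A.hom) (q := B.hom) (f := f.left) (Over.w f) (hgA.trans hgB.symm)
  refine ⟨inferInstance, GrpSchLib.flat_of_surjective_hom f, ?_⟩
  haveI : IsLocallyNoetherian B.left := LocallyOfFiniteType.isLocallyNoetherian B.hom
  haveI : LocallyOfFinitePresentation A.hom := by
    haveI : IsLocallyNoetherian (Spec (CommRingCat.of k)) := inferInstance
    infer_instance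
  haveI : LocallyOfFinitePresentation (f.left ≫ B.hom) := by rw [Over.w]; infer_instance
  exact S12442.locallyOfFinitePresentation_of_comp f.left B.hom

/-- The degree of the finite combinations of homomorphisms is a homogeneous polynomial. -/
theorem exists_degree_poly {g : ℕ} (hgA : topologicalKrullDim A.left = g) (hgB : topologicalKrullDim B.left = g)
    {m : ℕ} (e : Fin m → (A ⟶ B)) :
    ∃ P : MvPolynomial (Fin m) ℚ, P.IsHomogeneous (2 * g) ∧ ∀ a : Fin m → ℤ,
      IsMonHom (∏ i, e i ^ a i) → IsFinite (∏ i, e i ^ a i).left →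
        ∀ b : B.left, (Scheme.Hom.finrank (∏ i, e i ^ a i).left b : ℚ) = MvPolynomial.eval (fun i => (a i : ℚ)) P := by
  haveI : IsIntegral A.left := GeometricallyIntegral.isIntegral_of_subsingleton A.hom
  haveI : IsIntegral B.left := GeometricallyIntegral.isIntegral_of_subsingleton B.hom
  letI : A.left.Over (Spec (CommRingCat.of k)) := ⟨A.hom⟩
  letI : B.left.Over (Spec (CommRingCat.of k)) := ⟨B.hom⟩
  haveI : IsProper (A.left ↘ Spec (CommRingCat.of k)) := ‹IsProper A.hom›
  haveI : IsProper (B.left ↘ Spec (CommRingCat.of k)) := ‹IsProper B.hom›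
  obtain ⟨M, hM, hs⟩ := S8121.result k B
  have hsym : pc hM.1 ((𝟙 B)⁻¹ : B ⟶ B) = pc hM.1 (𝟙 B) := by
    ext
    rw [val_pc_id, val_pc]
    exact ((PicGrp.cl_eq_cl_iff _ _).2 hs).symm
  obtain ⟨v, hv⟩ := exists_isTop k hgB.le (c := PicF.cl M) ⟨M, rfl, hM.1⟩
  obtain ⟨G, hG, hGz⟩ := exists_top_poly k hgA.le (fun p : Fin m × Fin m => bf hM.1 (e p.1) (e p.2))
    fun p => isInvertibleCl_bf hM.1 _ _
  let c : ℚ := (2 : ℚ) ^ g * v
  refine ⟨MvPolynomial.C c⁻¹ * MvPolynomial.aeval (fun p : Fin m × Fin m => MvPolynomial.X p.1 * MvPolynomial.X p.2) G,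
    ?_, fun a hhom hfin b => ?_⟩
  · have h := (MvPolynomial.isHomogeneous_C (Fin m) c⁻¹).mul (hG.aeval (R := ℚ) (n := 2)
      (fun p : Fin m × Fin m => (MvPolynomial.X p.1 * MvPolynomial.X p.2 : MvPolynomial (Fin m) ℚ))
      fun p => (MvPolynomial.isHomogeneous_X _ _).mul (MvPolynomial.isHomogeneous_X _ _))
    rwa [zero_add] at h
  obtain ⟨_, _, _⟩ := hom_props hgA hgB (∏ i, e i ^ a i)
  set f := ∏ i, e i ^ a i
  obtain ⟨w, hw⟩ := exists_isTop k hgA.le (c := PicF.pullCl f.left (PicF.cl M))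
    (PicClLib.isInvertibleCl_pullCl f.left ⟨M, rfl, hM.1⟩)
  obtain ⟨hpos, hwd⟩ := isTop_pullback k hgA hgB f hM b inferInstance inferInstance hv hw
  have h1 := hGz fun p => a p.1 * a p.2
  rw [← bf_prod hM.1 e a, bf_self hM.1 hsym, Units.val_pow_eq_pow_val, val_pc'] at h1
  have h2 := IsTop.unique k h1 (hw.pow k 2)
  rw [map_mul, MvPolynomial.eval_C, ← MvPolynomial.aeval_eq_eval, MvPolynomial.comp_aeval_apply,
    MvPolynomial.aeval_eq_eval]
  simp only [map_mul, MvPolynomial.aeval_X]
  push_cast at h2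
  rw [h2, hwd]
  simp only [c]
  field_simp

end AV

end Groth.Agent.AVDegPoly
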