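import Groth.Agent.AVDegLib.Ratio
import Groth.Agent.CurveCohLib.Skyscraper

/-!
The global sections of an invertible module are the rational functions with bounded poles.
-/

noncomputable section

set_option linter.style.haveILetI false
set_option linter.unusedSectionVars false
set_option backward.isDefEq.respectTransparency false
set_option backward.isDefEq.respectTransparency.types false
set_option maxHeartbeats 1000000
set_option autoImplicit false

universe u

open CategoryTheory CategoryTheory.Limits AlgebraicGeometry TopologicalSpace Opposite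

namespace Groth.Agent.AVDegPoly

open Groth.Agent.InvX Groth.Agent.AVDegLib

variable {k : Type u} [Field k] {A : Over (Spec (CommRingCat.of k))} [IsIntegral A.left]
  {N : A.left.Modules} (β : GenFrame N)

theorem rho_add {U : A.left.Opens} (h : genericPoint A.left ∈ U) (s t : Γ(N, U)) :
    rho β h (s + t) = rho β h s + rho β h t := by
  refine rho_eq β h _ ?_
  rw [map_add]
  exact (add_smul _ _ _).trans (congrArg₂ (· + ·) (rho_spec β h s) (rho_spec β h t))

theorem rho_eq_zero {U : A.left.Opens} (h : genericPoint A.left ∈ U) {e : Γ(N, U)} (he : IsFrame e) {V : A.left.Opens}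
    (i : V ≤ U) (hV : genericPoint A.left ∈ V) {s : Γ(N, V)} (hs : rho β hV s = 0) : s = 0 := by
  obtain ⟨a, ha⟩ := he.exists_coord i s
  rw [ha, rho_smul, rho_res, mul_eq_zero, or_iff_left (rho_ne_zero β h he), map_eq_zero_iff _ (gm_injective V hV)] at hs
  rw [ha, hs, zero_smul]

theorem sub_eq_zero_of_rho {U : A.left.Opens} (h : genericPoint A.left ∈ U) {e : Γ(N, U)} (he : IsFrame e) {V : A.left.Opens}
    (i : V ≤ U) (hV : genericPoint A.left ∈ V) {s t : Γ(N, V)} (hst : rho β hV s = rho β hV t) : s = t := by
  refine sub_eq_zero.1 (rho_eq_zero β h he i hV ?_)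
  have h2 := rho_add β hV (s - t) t
  rw [sub_add_cancel, hst] at h2
  exact (right_eq_add.1 h2 : _)

variable {ι : Type u} (U : ι → A.left.Opens) (hU : ∀ i, genericPoint A.left ∈ U i) (σ : ∀ i, Γ(N, U i))

/-- The rational functions with poles bounded by a family of frames. -/
def bdd : Submodule k A.left.functionField where
  carrier := {f | ∀ i, f / rho β (hU i) (σ i) ∈ sect A (U i)}
  add_mem' := fun {a b} ha hb i => by rw [add_div]; exact add_mem (ha i) (hb i)
  zero_mem' := fun i => by rw [zero_div]; exact zero_mem _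
  smul_mem' := fun c a ha i => by rw [smul_div_assoc]; exact (sect A (U i)).smul_mem (ha i) c

theorem mem_bdd {f : A.left.functionField} : f ∈ bdd β U hU σ ↔ ∀ i, f / rho β (hU i) (σ i) ∈ sect A (U i) := Iff.rfl

variable (hσ : ∀ i, IsFrame (σ i)) (cover : ∀ x, ∃ i, x ∈ U i)

include hσ cover in
theorem rho_global_bijective :
    ∃ hmem : (∀ s : Γ(N, ⊤), rho β (U := ⊤) trivial s ∈ bdd β U hU σ), Function.Bijective
      fun s : Γ(N, ⊤) => (⟨rho β (U := ⊤) trivial s, hmem s⟩ : bdd β U hU σ) := by
  refine ⟨fun s i => ?_, fun s t hst => ?_, fun f => ?_⟩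
  · refine sect_mono (le_inf le_top le_rfl) ?_
    exact ratio_mem β (U := ⊤) trivial (hU i) s (hσ i)
  · refine AModX.eq_of_locally s t fun p _ => ?_
    obtain ⟨i, hi⟩ := cover p
    refine ⟨U i, le_top, hi, sub_eq_zero_of_rho β (hU i) (hσ i) le_rfl (hU i) ?_⟩
    rw [rho_res, rho_res]
    exact congrArg Subtype.val hst
  · choose a ha using fun i => f.2 i (hU i)
    have hval : ∀ i, rho β (hU i) (a i • σ i) = f.1 := fun i => by
      rw [rho_smul, ha, div_mul_cancel₀ _ (rho_ne_zero β (hU i) (hσ i))]
    obtain ⟨s, hs, -⟩ := AModX.existsUnique_glue (M := N) (V := ⊤) U (fun _ => le_top) (fun p _ => cover p)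
      (fun i => a i • σ i) fun i j => by
        refine sub_eq_zero_of_rho β (hU i) (hσ i) inf_le_left ⟨hU i, hU j⟩ ?_
        rw [rho_res, rho_res, hval, hval]
    refine ⟨s, Subtype.ext ?_⟩
    obtain ⟨i, hi⟩ := cover (genericPoint A.left)
    show rho β (U := ⊤) trivial s = f.1
    rw [← hval i, ← hs i, rho_res]

include hσ cover in
/-- `h⁰` is the dimension of the space of bounded functions. -/
theorem finrank_HH_zero :
    letI : A.left.Over (Spec (CommRingCat.of k)) := ⟨A.hom⟩
    Module.finrank k (Coh.HH A.left N 0) = Module.finrank k (bdd β U hU σ) := by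
  letI : A.left.Over (Spec (CommRingCat.of k)) := ⟨A.hom⟩
  obtain ⟨hmem, hbij⟩ := rho_global_bijective β U hU σ hσ cover
  refine LinearEquiv.finrank_eq (LinearEquiv.ofBijective
    { toFun := fun t => (⟨rho β (U := ⊤) trivial (show Γ(N, ⊤) from Sheaf.H.equiv₀ (Coh.toAb N) isTerminalTop t), hmem _⟩ : bdd β U hU σ)
      map_add' := fun a b => Subtype.ext ((congrArg (rho β (U := ⊤) trivial) (map_add _ a b)).trans (rho_add β _ _ _))
      map_smul' := fun c t => Subtype.ext (by
        show rho β (U := ⊤) trivial _ = c • rho β (U := ⊤) trivial _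
        rw [CurveCohLib.h0Equiv_smul N c t, rho_smul, Algebra.smul_def]
        congr 1
        exact congrArg (gm ⊤ trivial) (ConcreteCategory.congr_hom (A.left.presheaf.map_id (op ⊤)) _)) }
    (hbij.comp (Sheaf.H.equiv₀ (Coh.toAb N) isTerminalTop).bijective))

end Groth.Agent.AVDegPoly
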